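import Mathlib
import Groth.Agent.Lib.Helper5.ProjF3.T2
import Groth.Agent.Lib.Helper5.Perf.HomVanishMV

/-!
# Weakly triangulated functors preserve zero objects and commute with shifts objectwise (helper5)
-/
set_option autoImplicit false
set_option linter.unusedSectionVars false
set_option linter.unusedVariables false
set_option linter.style.haveILetI false
universe u
open CategoryTheory CategoryTheory.Limits Pretriangulated AlgebraicGeometry
open scoped ZeroObject
attribute [local instance] HasDerivedCategory.standard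

namespace Groth.Agent.Lib.Helper5.RpushPerf

open Groth.Agent.Lib.Helper5.ProjF3 Groth.Agent.Lib.Helper5.ProjF2

section General

variable {C : Type*} [Category C] [HasZeroObject C] [HasShift C ℤ] [Preadditive C]
  [∀ n : ℤ, (shiftFunctor C n).Additive] [Pretriangulated C]
  {D : Type*} [Category D] [HasZeroObject D] [HasShift D ℤ] [Preadditive D]
  [∀ n : ℤ, (shiftFunctor D n).Additive] [Pretriangulated D]

/-- a weakly triangulated functor preserves zero objects -/
theorem weakTri_isZero_obj {F : C ⥤ D} (hF : WeakTri F) (X : C) (hX : IsZero X) :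
    IsZero (F.obj X) := by
  have hT : Triangle.mk (𝟙 X) (𝟙 X) (0 : X ⟶ X⟦(1 : ℤ)⟧) ∈ distTriang C := by
    refine isomorphic_distinguished _ (contractible_distinguished X) _
      (Triangle.isoMk _ _ (Iso.refl _) (Iso.refl _) (hX.iso (isZero_zero C)) ?_ ?_ ?_)
    · exact hX.eq_of_src _ _
    · exact hX.eq_of_src _ _
    · exact hX.eq_of_src _ _
  obtain ⟨c, hc⟩ := hF _ hT
  have h1 : F.map (𝟙 X) ≫ F.map (𝟙 X) = 0 := comp_distTriang_mor_zero₁₂ _ hc
  rw [CategoryTheory.Functor.map_id, Category.id_comp] at h1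
  exact (IsZero.iff_id_eq_zero _).2 h1

/-- a weakly triangulated functor commutes with the shift by one, objectwise -/
theorem weakTri_nonempty_shift_one_iso {F : C ⥤ D} (hF : WeakTri F) (X : C) :
    Nonempty (F.obj (X⟦(1 : ℤ)⟧) ≅ (F.obj X)⟦(1 : ℤ)⟧) := by
  have hT := rot_of_distTriang _ (contractible_distinguished X)
  obtain ⟨c, hc⟩ := hF _ hT
  have hz : IsZero (Triangle.mk (F.map (contractibleTriangle X).rotate.mor₁)
      (F.map (contractibleTriangle X).rotate.mor₂) c).obj₂ :=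
    weakTri_isZero_obj hF _ (isZero_zero C)
  haveI : IsIso c := (Triangle.isZero₂_iff_isIso₃ _ hc).1 hz
  have e := asIso c
  exact ⟨e⟩

/-- a weakly triangulated functor commutes with the shifts by natural numbers, objectwise -/
theorem weakTri_nonempty_shift_nat_iso {F : C ⥤ D} (hF : WeakTri F) (n : ℕ) (X : C) :
    Nonempty (F.obj (X⟦(n : ℤ)⟧) ≅ (F.obj X)⟦(n : ℤ)⟧) := by
  induction n generalizing X with
  | zero =>
    exact ⟨F.mapIso ((shiftFunctorZero C ℤ).app X) ≪≫ ((shiftFunctorZero D ℤ).app (F.obj X)).symm⟩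
  | succ n ih =>
    obtain ⟨e1⟩ := ih X
    obtain ⟨e2⟩ := weakTri_nonempty_shift_one_iso hF (X⟦(n : ℤ)⟧)
    exact ⟨F.mapIso ((shiftFunctorAdd' C (n : ℤ) 1 ((n + 1 : ℕ) : ℤ) (by push_cast; rfl)).app X) ≪≫
      e2 ≪≫ (shiftFunctor D (1 : ℤ)).mapIso e1 ≪≫
      ((shiftFunctorAdd' D (n : ℤ) 1 ((n + 1 : ℕ) : ℤ) (by push_cast; rfl)).app (F.obj X)).symm⟩

/-- a weakly triangulated functor commutes with the shifts, objectwise -/
theorem weakTri_nonempty_shift_iso {F : C ⥤ D} (hF : WeakTri F) (n : ℤ) (X : C) :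
    Nonempty (F.obj (X⟦n⟧) ≅ (F.obj X)⟦n⟧) := by
  obtain ⟨k, rfl | rfl⟩ := Int.eq_nat_or_neg n
  · exact weakTri_nonempty_shift_nat_iso hF k X
  · obtain ⟨e⟩ := weakTri_nonempty_shift_nat_iso hF k (X⟦-(k : ℤ)⟧)
    -- `F X ≅ F ((X⟦-k⟧)⟦k⟧) ≅ (F (X⟦-k⟧))⟦k⟧`
    have e1 : F.obj X ≅ (F.obj (X⟦-(k : ℤ)⟧))⟦(k : ℤ)⟧ :=
      F.mapIso ((shiftFunctorCompIsoId C (-(k : ℤ)) (k : ℤ) (by omega)).app X).symm ≪≫ e
    exact ⟨((shiftFunctorCompIsoId D (k : ℤ) (-(k : ℤ)) (by omega)).app
        (F.obj (X⟦-(k : ℤ)⟧))).symm ≪≫ (shiftFunctor D (-(k : ℤ))).mapIso e1.symm⟩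

end General

variable {X Y : Scheme.{u}}

/-- **`Lf^*` is weakly triangulated** -/
theorem weakTri_lpull (f : X ⟶ Y) [DCoh.HasLpull f] : WeakTri (DCoh.Lpull f) := by
  haveI : DCoh.HasRpush f := Groth.Agent.Lib.Helper5.HomVanish.hasRpush' f
  refine weakTri_of_derived (fun K : CochainComplex Y.Modules ℤ => DCoh.IsKFlat K) kflat_res
    (pullCx f ⋙ DerivedCategory.Q) (DCoh.Lpull f) (lpullβ f)
    (fun ψ hC hA' => isKFlat_cone ψ hC hA') isKFlat_shift_one
    (fun F hF => isIso_lpullβ_app f F hF) ?_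
  intro C A' ψ hC hA'
  exact exists_distinguished_of_presSplit (pullCx f)
    (presSplit_mapHomologicalComplex (Scheme.Modules.pullback f)) ψ

end Groth.Agent.Lib.Helper5.RpushPerf
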