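import Mathlib
import Groth.Agent.Lib.Helper5.Misc.KFlatGen
import Groth.Agent.Lib.Helper5.KFlatSite2.LTM
import Groth.Agent.Lib.Helper5.KFlatSite2.TorAmpIff
import Groth.Agent.Lib.Helper5.LTen.LTenAll
import Groth.Agent.Lib.Helper5.TorQC.StalkTF

/-!
# `K ⊗^L G` for a module `G` is `K ⊗^L G[0]` (helper5)
-/
set_option autoImplicit false
set_option linter.unusedSectionVars false
set_option linter.unusedVariables false
set_option linter.style.haveILetI false
universe u
open CategoryTheory CategoryTheory.Limits AlgebraicGeometry HomologicalComplex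
attribute [local instance] HasDerivedCategory.standard

namespace Groth.Agent.Lib.Helper5.RpushPerf

open Groth.Agent.Lib.Helper5.Misc.KFlatGen Groth.Agent.Lib.Helper5.TorQC
  Groth.Agent.Lib.Helper5.LTenAll

variable {X : Scheme.{u}}

/-- the module `G` as a complex in degree `0` -/
noncomputable abbrev sCx (G : X.Modules) : CochainComplex X.Modules ℤ :=
  (HomologicalComplex.single X.Modules (ComplexShape.up ℤ) 0).obj G

lemma isZero_sCx_X (G : X.Modules) (n : ℤ) (hn : n ≠ 0) : IsZero ((sCx G).X n) :=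
  HomologicalComplex.isZero_single_obj_X _ _ _ _ hn

/-- first component of `tfIso` -/
noncomputable def c1 (P : CochainComplex X.Modules ℤ) (G : X.Modules) (n : ℤ) :
    (DCoh.tensorRightMod G).obj (P.X n) ≅
      ((DCoh.tensorBi (X := X)).obj (P.X n)).obj ((sCx G).X 0) :=
  ((DCoh.tensorBi (X := X)).obj (P.X n)).mapIso
    (HomologicalComplex.singleObjXSelf (ComplexShape.up ℤ) 0 G).symm

/-- second component of `tfIso` -/
noncomputable def c2 (P : CochainComplex X.Modules ℤ) (G : X.Modules) (n : ℤ) :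
    ((DCoh.tensorBi (X := X)).obj (P.X n)).obj ((sCx G).X 0) ≅
      ((DCoh.tensorCx.obj P).obj (sCx G)).X n :=
  @asIso _ _ _ _ (ιMapBifunctor P (sCx G) (DCoh.tensorBi (X := X)) (ComplexShape.up ℤ) n 0 n
      (add_zero n))
    (isIso_ι_concentrated (DCoh.tensorBi (X := X)) P (sCx G) 0 (isZero_sCx_X G) n n
      (add_zero n))

/-- the components of `tfIso` -/
noncomputable def cX (P : CochainComplex X.Modules ℤ) (G : X.Modules) (n : ℤ) :
    (TF P G).X n ≅ ((DCoh.tensorCx.obj P).obj (sCx G)).X n := c1 P G n ≪≫ c2 P G n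

lemma cX_comm (P : CochainComplex X.Modules ℤ) (G : X.Modules) (i : ℤ) :
    (cX P G i).hom ≫ ((DCoh.tensorCx.obj P).obj (sCx G)).d i (i + 1) =
      (TF P G).d i (i + 1) ≫ (cX P G (i + 1)).hom := by
  have h := ι_d_concentrated' (DCoh.tensorBi (X := X)) P (sCx G) 0 (isZero_sCx_X G) i (i + 1)
    i (i + 1) rfl rfl (add_zero i) (add_zero (i + 1))
  have hnat := ((DCoh.tensorBi (X := X)).map (P.d i (i + 1))).naturality
    (HomologicalComplex.singleObjXSelf (ComplexShape.up ℤ) 0 G).inv
  show (((DCoh.tensorBi (X := X)).obj (P.X i)).map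
        (HomologicalComplex.singleObjXSelf (ComplexShape.up ℤ) 0 G).inv ≫
      ιMapBifunctor P (sCx G) (DCoh.tensorBi (X := X)) (ComplexShape.up ℤ) i 0 i
        (add_zero i)) ≫
      (mapBifunctor P (sCx G) (DCoh.tensorBi (X := X)) (ComplexShape.up ℤ)).d i (i + 1) =
    ((DCoh.tensorBi (X := X)).map (P.d i (i + 1))).app G ≫
      (((DCoh.tensorBi (X := X)).obj (P.X (i + 1))).map
        (HomologicalComplex.singleObjXSelf (ComplexShape.up ℤ) 0 G).inv ≫
      ιMapBifunctor P (sCx G) (DCoh.tensorBi (X := X)) (ComplexShape.up ℤ) (i + 1) 0 (i + 1)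
        (add_zero (i + 1)))
  rw [Category.assoc, h, ← Category.assoc, ← Category.assoc]
  congr 1

/-- the termwise tensor product `P ⊗ G` is the tensor product of `P` with `G[0]` -/
noncomputable def tfIso (P : CochainComplex X.Modules ℤ) (G : X.Modules) :
    TF P G ≅ (DCoh.tensorCx.obj P).obj (sCx G) :=
  HomologicalComplex.Hom.isoOfComponents (fun n => cX P G n)
    (fun i j hij => by
      obtain rfl : i + 1 = j := hij
      exact cX_comm P G i)

/-- **`K ⊗^L G ≅ K ⊗^L G[0]`** -/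
theorem nonempty_ltensorMod_iso (G : X.Modules) [DCoh.HasLTensorMod G]
    [DCoh.HasLTensorCx (sCx G)] (K : DCoh.D X) :
    Nonempty ((DCoh.LTensorMod G).obj K ≅ (DCoh.LTensorCx (sCx G)).obj K) := by
  obtain ⟨P, hP, -, ⟨eP⟩⟩ := Groth.Agent.Lib.Helper5.Pure.exists_kflat_repr K
  exact ⟨(DCoh.LTensorMod G).mapIso eP.symm ≪≫
    Groth.Agent.Lib.Helper5.LTM.ltensorModObjIso G P hP ≪≫
    DerivedCategory.Q.mapIso (tfIso P G) ≪≫ (ltensorObjIsoOfKFlat (sCx G) P hP).symm ≪≫
    (DCoh.LTensorCx (sCx G)).mapIso eP⟩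

end Groth.Agent.Lib.Helper5.RpushPerf
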