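import Mathlib
import Groth.Agent.Lib.Helper5.RpushPerf.ConcSh
import Groth.Agent.Lib.Helper5.DerSchTor.Vanish
import Groth.Agent.Lib.Helper5.ProjF3.Main3
import Groth.Agent.Lib.Helper5.QC.RpushPC
import Groth.Agent.Lib.Helper5.Stalk.RpushGE
import Groth.Agent.Lib.Helper5.RpushCl.RpushClassic
import Groth.Agent.Lib.Helper5.LTen.DerInv
import Groth.Agent.Lib.Helper5.ProjF2.KIRestr

/-!
# Tor vanishing for `Rf_* F` from the tor amplitude of `F` relative to `f` (helper5)
-/
set_option autoImplicit false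
set_option linter.unusedSectionVars false
set_option linter.unusedVariables false
set_option linter.style.haveILetI false
universe u
open CategoryTheory CategoryTheory.Limits AlgebraicGeometry
attribute [local instance] HasDerivedCategory.standard

namespace Groth.Agent.Lib.Helper5.RpushPerf

open Groth.Agent.Lib.Helper5.LpullLib Groth.Agent.Lib.Helper5.LTenAll
  Groth.Agent.Lib.Helper5.KFlatPull Groth.Agent.Lib.Helper5.KFlatSiteQ
  Groth.Agent.Lib.Helper5.FlatTerms Groth.Agent.Lib.Helper5.QC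

variable {X Y : Scheme.{u}}

/-- the cohomology of `F ⊗^L f^*P`, for `P` a K-flat resolution of a module, vanishes outside the
tor amplitude of `F` relative to `f` -/
theorem isZero_HD_ltensor_pull (f : X ⟶ Y) (F : CochainComplex X.Modules ℤ) (m n : ℤ)
    (hF : DerSch.HasTorAmplitude f m n F) (P : CochainComplex Y.Modules ℤ) (hP : KFT P)
    (G : Y.Modules) (eP : DCoh.toD Y P ≅ DCoh.inD Y G)
    [DCoh.HasLTensorCx
      (((Scheme.Modules.pullback f).mapHomologicalComplex (ComplexShape.up ℤ)).obj P)]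
    (i : ℤ) (hi : i < m ∨ n < i) :
    IsZero (DCoh.HD ((DCoh.LTensorCx
      (((Scheme.Modules.pullback f).mapHomologicalComplex (ComplexShape.up ℤ)).obj P)).obj
        (DCoh.toD X F)) i) := by
  haveI : DCoh.HasLpull f := hasLpull f
  haveI : DCoh.HasLTensorCx F := hasLTensorCx F
  let fP := ((Scheme.Modules.pullback f).mapHomologicalComplex (ComplexShape.up ℤ)).obj P
  have hfP : DCoh.IsKFlat fP := isKFlat_pullback f P hP.1
  let e : (DCoh.LTensorCx fP).obj (DCoh.toD X F) ≅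
      (DCoh.LTensorCx F).obj ((DCoh.Lpull f).obj (DCoh.inD Y G)) :=
    Groth.Agent.Lib.Helper5.LTenDer.ltensorObjIso fP hfP F ≪≫
      DerivedCategory.Q.mapIso (Groth.Agent.Lib.Helper5.ProjF2.braidCx F fP) ≪≫
      (ltensorObjIsoOfKFlat F fP hfP).symm ≪≫
      (DCoh.LTensorCx F).mapIso ((lpullObjIso f P hP).symm ≪≫ (DCoh.Lpull f).mapIso eP)
  exact IsZero.of_iso
    (Groth.Agent.Lib.Helper5.DerSchTor.isZero_HD_ltensor_lpull_inD f F m n hF G i hi)
    ((DerivedCategory.homologyFunctor X.Modules i).mapIso e)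

/-- **Tor vanishing for `Rf_* F`**: if `F` has tor amplitude in `[m, n]` relative to `f` then
`Rf_* F ⊗^L G` has cohomology in `[m, n + N)` for all quasi-coherent `G`, with `N` depending only
on `f` -/
theorem exists_bound_tor (f : X ⟶ Y) [QuasiCompact f] [QuasiSeparated f] [CompactSpace Y]
    [DCoh.HasRpush f] :
    ∃ N : ℤ, ∀ (F : CochainComplex X.Modules ℤ), DCoh.IsQCohD (DCoh.toD X F) → ∀ (m n : ℤ),
      DerSch.HasTorAmplitude f m n F → ∀ (G : Y.Modules), G.IsQuasicoherent →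
      ∀ [DCoh.HasLTensorMod G] (i : ℤ), (i < m ∨ N + n ≤ i) →
        IsZero (DCoh.HD ((DCoh.LTensorMod G).obj ((DCoh.Rpush f).obj (DCoh.toD X F))) i) := by
  obtain ⟨N, hN⟩ := exists_bound_shift f
  refine ⟨N, fun F hFq m n htor G hG _ i hi => ?_⟩
  haveI := hG
  haveI : DCoh.HasLpull f := hasLpull f
  haveI : DCoh.HasLTensorCx (sCx G) := hasLTensorCx _
  obtain ⟨e1⟩ := nonempty_ltensorMod_iso G ((DCoh.Rpush f).obj (DCoh.toD X F))
  obtain ⟨P, p, hP1, hP2, hp, _⟩ : ∃ (P : CochainComplex Y.Modules ℤ) (p : P ⟶ sCx G),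
      DCoh.IsKFlat P ∧ (∀ n : ℤ, ModSite.IsFlat (O := Y.sheaf) (P.X n)) ∧ QuasiIso p ∧
        ∀ n : ℤ, Epi (p.f n) := exists_isKFlat_resolution (O := Y.sheaf) (sCx G)
  have hKFT : KFT P := ⟨hP1, hP2⟩
  haveI : QuasiIso p := hp
  let eP : DCoh.toD Y P ≅ DCoh.toD Y (sCx G) := asIso (DerivedCategory.Q.map p)
  let fP := ((Scheme.Modules.pullback f).mapHomologicalComplex (ComplexShape.up ℤ)).obj P
  haveI : DCoh.HasLTensorCx fP := hasLTensorCx _
  have hGq : DCoh.IsQCohD (DCoh.toD Y (sCx G)) :=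
    isQCohD_of_iso (toDSingleIso G).symm (Groth.Agent.Lib.Helper5.RpushClassic.isQCohD_inD G)
  let eM : DCoh.toD X fP ≅ (DCoh.Lpull f).obj (DCoh.toD Y (sCx G)) :=
    (lpullObjIso f P hKFT).symm ≪≫ (DCoh.Lpull f).mapIso eP
  obtain ⟨e2⟩ := Groth.Agent.Lib.Helper5.ProjF3.nonempty_projFormula_qcoh f (DCoh.toD X F) hFq
    (sCx G) hGq fP ⟨eM⟩
  have hLq : DCoh.IsQCohD ((DCoh.LTensorCx fP).obj (DCoh.toD X F)) :=
    isQCohD_LTensorCx fP (isQCohD_of_iso eM.symm (isQCohD_Lpull f _ hGq)) _ hFq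
  have hLz : ∀ j : ℤ, (j < m ∨ n < j) →
      IsZero (DCoh.HD ((DCoh.LTensorCx fP).obj (DCoh.toD X F)) j) := fun j hj =>
    isZero_HD_ltensor_pull f F m n htor P hKFT G (eP ≪≫ toDSingleIso G) j hj
  refine IsZero.of_iso ?_ ((DerivedCategory.homologyFunctor Y.Modules i).mapIso (e1 ≪≫ e2))
  rcases hi with hi | hi
  · haveI : ((DCoh.LTensorCx fP).obj (DCoh.toD X F)).IsGE m := by
      rw [DerivedCategory.isGE_iff]
      intro j hj
      exact hLz j (Or.inl hj)
    haveI := Groth.Agent.Lib.Helper5.RpushGE.rpush_isGE f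
      ((DCoh.LTensorCx fP).obj (DCoh.toD X F)) m
    exact DerivedCategory.isZero_of_isGE _ m i hi
  · have hle : ((DCoh.LTensorCx fP).obj (DCoh.toD X F)).IsLE n := by
      rw [DerivedCategory.isLE_iff]
      intro j hj
      exact hLz j (Or.inr hj)
    exact hN _ n hLq hle i hi

end Groth.Agent.Lib.Helper5.RpushPerf
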