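import Mathlib
import Groth.Agent.Lib.Helper5.RpushPerf.TorVanish
import Groth.Agent.Lib.Helper5.ProperPush.PSupp2
import Groth.Agent.Lib.Helper5.Perf.PerfAmp
import Groth.Agent.Lib.Helper5.Perf.PCCohNoeth
import Groth.Agent.Lib.Helper5.TorQC.ResTF

/-!
# `Rf_*` of a complex of finite tor dimension with coherent cohomology of proper support is perfect:
the quasi-compact case (helper5)
-/
set_option autoImplicit false
set_option linter.unusedSectionVars false
set_option linter.unusedVariables false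
set_option linter.style.haveILetI false
universe u
open CategoryTheory CategoryTheory.Limits AlgebraicGeometry
attribute [local instance] HasDerivedCategory.standard

namespace Groth.Agent.Lib.Helper5.RpushPerf

open Groth.Agent.Lib.Helper5.QC Groth.Agent.Lib.Helper5.PSupp

variable {X S : Scheme.{u}}

theorem quasiSeparated_of_quasiSeparatedSpace (f : X ⟶ S) [QuasiSeparatedSpace X] :
    QuasiSeparated f := by
  haveI : QuasiSeparated (f ≫ terminal.from S) := by
    rw [terminalIsTerminal.hom_ext (f ≫ terminal.from S) (terminal.from X)]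
    exact (quasiSeparatedSpace_iff_quasiSeparated X).1 inferInstance
  exact QuasiSeparated.of_comp f (terminal.from S)

/-- on a quasi-separated scheme, tor amplitude can be tested on quasi-coherent modules -/
theorem hasTorAmplitudeIn_of_qcoh [QuasiSeparatedSpace X] (E : DCoh.D X) (a b : ℤ)
    (h : ∀ (F : X.Modules), F.IsQuasicoherent → ∀ [DCoh.HasLTensorMod F] (i : ℤ),
      (i < a ∨ b < i) → IsZero (DCoh.HD ((DCoh.LTensorMod F).obj E) i)) :
    DCoh.HasTorAmplitudeIn a b E := by
  intro F inst i hi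
  obtain ⟨P, hP, -, ⟨eP⟩⟩ := Groth.Agent.Lib.Helper5.Pure.exists_kflat_repr E
  have key : ∀ (G : X.Modules) [DCoh.HasLTensorMod G],
      Nonempty (DCoh.HD ((DCoh.LTensorMod G).obj E) i ≅
        (Groth.Agent.Lib.Helper5.TorQC.TF P G).homology i) := by
    intro G _
    refine ⟨(DerivedCategory.homologyFunctor X.Modules i).mapIso
      ((DCoh.LTensorMod G).mapIso eP.symm ≪≫
        Groth.Agent.Lib.Helper5.LTM.ltensorModObjIso G P hP) ≪≫
      (DerivedCategory.homologyFunctorFactors X.Modules i).app _⟩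
  obtain ⟨e⟩ := key F
  refine IsZero.of_iso ?_ e
  apply Groth.Agent.Lib.Helper5.TorQC.isZero_homology_TF_of_qcoh P i
  intro G hG
  haveI : DCoh.HasLTensorMod G := Groth.Agent.Lib.Helper5.LTM.hasLTensorMod G
  obtain ⟨e'⟩ := key G
  exact IsZero.of_iso (h G hG i hi) e'.symm

/-- **the quasi-compact case**: `S` Noetherian, `f` of finite type, `F` bounded with coherent
cohomology of proper support and of tor amplitude in `[m, n]` relative to `f`; then `Rf_* F` is
perfect -/
theorem isPerfect_rpush_of_torAmplitude [IsNoetherian S] (f : X ⟶ S) [LocallyOfFiniteType f]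
    [QuasiCompact f] [DCoh.HasRpush f] (F : CochainComplex X.Modules ℤ)
    (hcoh : DCoh.IsCohD (DCoh.toD X F)) (a b : ℤ)
    (hbdd : ∀ i : ℤ, (i < a ∨ b < i) → IsZero (DCoh.HD (DCoh.toD X F) i))
    (hsupp : ∀ i : ℤ, ClSub.IsProperOver f (CohB1.support (DCoh.HD (DCoh.toD X F) i)))
    (m n : ℤ) (htor : DerSch.HasTorAmplitude f m n F) :
    DCoh.IsPerfect ((DCoh.Rpush f).obj (DCoh.toD X F)) := by
  haveI : IsLocallyNoetherian X := LocallyOfFiniteType.isLocallyNoetherian f
  haveI : QuasiSeparated f := quasiSeparated_of_quasiSeparatedSpace f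
  haveI : (DCoh.toD X F).IsGE a := by
    rw [DerivedCategory.isGE_iff]
    intro j hj
    exact hbdd j (Or.inl hj)
  haveI : (DCoh.toD X F).IsLE b := by
    rw [DerivedCategory.isLE_iff]
    intro j hj
    exact hbdd j (Or.inr hj)
  have hPP := pPush_bounded f (DCoh.toD X F) a b (fun i => ⟨hcoh i, hsupp i⟩)
  have hKq : DCoh.IsQCohD (DCoh.toD X F) := fun i => (hcoh i).1
  have hRq : DCoh.IsQCohD ((DCoh.Rpush f).obj (DCoh.toD X F)) := fun i => (hPP.1 i).1
  obtain ⟨N, hN⟩ := exists_bound_tor f
  have hmn' : m ≤ max (N + n - 1) m := le_max_right _ _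
  have htorR : DCoh.HasTorAmplitudeIn m (max (N + n - 1) m)
      ((DCoh.Rpush f).obj (DCoh.toD X F)) := by
    apply hasTorAmplitudeIn_of_qcoh
    intro G hG _ i hi
    refine hN F hKq m n htor G hG i ?_
    rcases hi with hi | hi
    · exact Or.inl hi
    · right
      have := le_max_left (N + n - 1) m
      omega
  have hflat : DCoh.HasFlatAmplitudeIn m (max (N + n - 1) m)
      ((DCoh.Rpush f).obj (DCoh.toD X F)) :=
    (Groth.Agent.Lib.Helper5.Pure.torAmplitude_iff_flatAmplitude _ m _ hmn'
      (fun G => Groth.Agent.Lib.Helper5.LTM.hasLTensorMod G)).1 htorR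
  have hpc : DCoh.IsPseudoCoherentD (m - 1) ((DCoh.Rpush f).obj (DCoh.toD X F)) :=
    (Groth.Agent.Lib.Helper5.PCCoh.isPC_iff_noetherian _ hRq (m - 1)).2
      ⟨fun i _ => hPP.1 i, hPP.2⟩
  exact Groth.Agent.Lib.Helper5.PerfAmpl.isPerfect_of_hasPerfectAmplitudeIn
    ((Groth.Agent.Lib.Helper5.PerfAmpl.hasPerfectAmplitudeIn_iff _ m _ hmn').2 ⟨hpc, hflat⟩)

end Groth.Agent.Lib.Helper5.RpushPerf
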