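import Mathlib
import Groth.Agent.Lib.Helper5.RpushPerf.Core
import Groth.Agent.Lib.Helper5.MV.MVTri
import Groth.Agent.Lib.Helper5.Stalk.RpushSupp
import Groth.Agent.Lib.Helper5.DerSchTor.Restrict
import Groth.Agent.Lib.Helper3.ProperOver
import Groth.Agent.Lib.Helper1.CohRestr
import Groth.Agent.Lib.Lead.TilT6

/-!
# `Rf_*` of a complex of finite tor dimension with coherent cohomology of proper support is perfect:
reduction to the quasi-compact case by excision (helper5)
-/
set_option autoImplicit false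
set_option linter.unusedSectionVars false
set_option linter.unusedVariables false
set_option linter.style.haveILetI false
universe u
open CategoryTheory CategoryTheory.Limits AlgebraicGeometry Pretriangulated
attribute [local instance] HasDerivedCategory.standard

namespace Groth.Agent.Lib.Helper5.RpushPerf

open Groth.Agent.Lib.Helper5.MV Groth.Agent.Lib.Helper5.RpushSupp
  Groth.Agent.Lib.Helper5.HomVanish Groth.Agent.Lib.Helper5.LocalCoh

attribute [local instance] Groth.Agent.Lib.Helper5.HomVanish.hasRpush'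

variable {X S : Scheme.{u}}

/-- an object whose cohomology sheaves have trivial stalks on `W` restricts to zero on `W` -/
theorem isZero_restrictD_of_stalks (E : DCoh.D X) (W : X.Opens)
    (h : ∀ (i : ℤ) (x : X), x ∈ W → Subsingleton ((DCoh.HD E i).presheaf.stalk x)) :
    IsZero ((DCoh.restrictD W.ι).obj E) := by
  apply isZero_of_forall_isZero_HD
  intro i
  exact IsZero.of_iso (isZero_restrict_of_stalks (DCoh.HD E i) W (h i)) (hdRestrictDIso E W i).symm

/-- **excision**: if `X = U ∪ V` and the cohomology of `E` vanishes on `V` then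
`Rf_* E ≅ R(f|_U)_* (E|_U)` -/
theorem nonempty_rpush_iso_of_cover (f : X ⟶ S) [DCoh.HasRpush f] (U V : X.Opens)
    (hUV : U ⊔ V = ⊤) (E : DCoh.D X)
    (hV : ∀ (i : ℤ) (x : X), x ∈ V → Subsingleton ((DCoh.HD E i).presheaf.stalk x))
    [DCoh.HasRpush (U.ι ≫ f)] :
    Nonempty ((DCoh.Rpush f).obj E ≅ (DCoh.Rpush (U.ι ≫ f)).obj ((DCoh.restrictD U.ι).obj E)) := by
  obtain ⟨a, b, c, hT⟩ := exists_mv_triangle_top f (MVData.of_top U V hUV) (U.ι ≫ f) (V.ι ≫ f)
    ((U ⊓ V).ι ≫ f) rfl rfl rfl E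
  have hzV : IsZero ((DCoh.restrictD V.ι).obj E) := isZero_restrictD_of_stalks E V hV
  have hzW : IsZero ((DCoh.restrictD (U ⊓ V).ι).obj E) :=
    isZero_restrictD_of_stalks E (U ⊓ V) (fun i x hx => hV i x hx.2)
  haveI := additive_rpush (V.ι ≫ f)
  haveI := additive_rpush ((U ⊓ V).ι ≫ f)
  have hz2 : IsZero ((DCoh.Rpush (V.ι ≫ f)).obj ((DCoh.restrictD V.ι).obj E)) :=
    (DCoh.Rpush (V.ι ≫ f)).map_isZero hzV
  have hz3 : IsZero ((DCoh.Rpush ((U ⊓ V).ι ≫ f)).obj ((DCoh.restrictD (U ⊓ V).ι).obj E)) :=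
    (DCoh.Rpush ((U ⊓ V).ι ≫ f)).map_isZero hzW
  haveI : IsIso a := (Triangle.isZero₃_iff_isIso₁ _ hT).1 hz3
  haveI : IsIso (biprod.inl : (DCoh.Rpush (U.ι ≫ f)).obj ((DCoh.restrictD U.ι).obj E) ⟶
      (DCoh.Rpush (U.ι ≫ f)).obj ((DCoh.restrictD U.ι).obj E) ⊞
        (DCoh.Rpush (V.ι ≫ f)).obj ((DCoh.restrictD V.ι).obj E)) :=
    (CategoryTheory.Biprod.isIso_inl_iff_isZero _ _).2 hz2
  exact ⟨asIso a ≪≫ (asIso biprod.inl).symm⟩

/-- a compact subset of a scheme is contained in a quasi-compact open -/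
theorem exists_compact_open (Z : Set X) (hZ : IsCompact Z) :
    ∃ U : X.Opens, IsCompact (U : Set X) ∧ Z ⊆ U := by
  have hW : ∀ x : X, ∃ W : X.Opens, IsAffineOpen W ∧ x ∈ W := by
    intro x
    obtain ⟨_, ⟨W, hW : IsAffineOpen W, rfl⟩, hxW, -⟩ :=
      X.isBasis_affineOpens.exists_subset_of_mem_open (Set.mem_univ x) isOpen_univ
    exact ⟨W, hW, hxW⟩
  choose W hWaff hxW using hW
  obtain ⟨t, ht⟩ := hZ.elim_finite_subcover (fun x : X => ((W x : X.Opens) : Set X))
    (fun x => (W x).isOpen) (fun x _ => Set.mem_iUnion.2 ⟨x, hxW x⟩)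
  refine ⟨⨆ x ∈ t, W x, ?_, ?_⟩
  · have : ((⨆ x ∈ t, W x : X.Opens) : Set X) = ⋃ x ∈ t, ((W x : X.Opens) : Set X) := by
      simp
    rw [this]
    exact t.isCompact_biUnion (fun x _ => (hWaff x).isCompact)
  · intro z hz
    have := ht hz
    simpa using this

/-- a closed subset proper over a quasi-compact base is quasi-compact -/
theorem isCompact_of_isProperOver [CompactSpace S] (f : X ⟶ S) (Z : Set X)
    (h : ClSub.IsProperOver f Z) : IsCompact Z := by
  obtain ⟨hc, hp⟩ := h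
  haveI := hp
  haveI : CompactSpace ↥(Groth.Agent.Helper3.redSub Z hc) :=
    QuasiCompact.compactSpace_of_compactSpace (Groth.Agent.Helper3.redι Z hc ≫ f)
  rw [← Groth.Agent.Helper3.range_redι Z hc]
  exact isCompact_range (Groth.Agent.Helper3.redι Z hc).continuous

/-- a closed subset of `X` proper over `S` and contained in an open `U` is proper over `S` as a
closed subset of `U` -/
theorem isProperOver_restrict (f : X ⟶ S) (U : X.Opens) (Z : Set X) (hZU : Z ⊆ U)
    (h : ClSub.IsProperOver f Z) : ClSub.IsProperOver (U.ι ≫ f) (U.ι.base ⁻¹' Z) := by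
  obtain ⟨hc, hp⟩ := h
  let i := Groth.Agent.Helper3.redι Z hc
  have hr : Set.range i = Z := Groth.Agent.Helper3.range_redι Z hc
  have hle : Set.range i ⊆ Set.range U.ι := by
    rw [hr, Scheme.Opens.range_ι]
    exact hZU
  let i' : Groth.Agent.Helper3.redSub Z hc ⟶ (U : Scheme.{u}) := IsOpenImmersion.lift U.ι i hle
  have hfac : i' ≫ U.ι = i := IsOpenImmersion.lift_fac U.ι i hle
  haveI : IsClosedImmersion (i' ≫ U.ι) := by
    rw [hfac]
    infer_instance
  haveI : IsClosedImmersion i' := IsClosedImmersion.of_comp i' U.ι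
  have hr' : Set.range i' = U.ι.base ⁻¹' Z := by
    ext x'
    constructor
    · rintro ⟨t, rfl⟩
      show U.ι (i' t) ∈ Z
      have h1 : U.ι (i' t) ∈ Set.range i := ⟨t, by rw [← hfac]; rfl⟩
      exact (Set.ext_iff.1 hr _).1 h1
    · intro hx'
      have : U.ι x' ∈ Set.range i := (Set.ext_iff.1 hr _).2 hx'
      obtain ⟨t, ht⟩ := this
      refine ⟨t, U.ι.isOpenEmbedding.injective ?_⟩
      rw [← ht, ← hfac]
      rfl
  refine Groth.Agent.Helper3.isProperOver_of_isClosedImmersion (U.ι ≫ f) i' _ hr' ?_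
  have : i' ≫ U.ι ≫ f = i ≫ f := by rw [← Category.assoc, hfac]
  rw [this]
  exact hp

/-- **`Rf_* F` is perfect** for `S` Noetherian, `f` locally of finite type, `F` bounded with
coherent cohomology of proper support and of tor amplitude in `[m, n]` relative to `f` -/
theorem isPerfect_rpush_lft [IsNoetherian S] (f : X ⟶ S) [LocallyOfFiniteType f]
    [DCoh.HasRpush f] (F : CochainComplex X.Modules ℤ)
    (hcoh : DCoh.IsCohD (DCoh.toD X F)) (a b : ℤ)
    (hbdd : ∀ i : ℤ, (i < a ∨ b < i) → IsZero (DCoh.HD (DCoh.toD X F) i))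
    (hsupp : ∀ i : ℤ, ClSub.IsProperOver f (CohB1.support (DCoh.HD (DCoh.toD X F) i)))
    (m n : ℤ) (htor : DerSch.HasTorAmplitude f m n F) :
    DCoh.IsPerfect ((DCoh.Rpush f).obj (DCoh.toD X F)) := by
  haveI : IsLocallyNoetherian X := LocallyOfFiniteType.isLocallyNoetherian f
  let Zi : ℤ → Set X := fun i => CohB1.support (DCoh.HD (DCoh.toD X F) i)
  let Z : Set X := ⋃ i ∈ Finset.Icc a b, Zi i
  have hZc : IsCompact Z :=
    (Finset.Icc a b).isCompact_biUnion (fun i _ => isCompact_of_isProperOver f _ (hsupp i))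
  have hZcl : IsClosed Z :=
    isClosed_biUnion_finset (fun i _ => (hsupp i).fst)
  have hZi : ∀ i : ℤ, Zi i ⊆ Z := by
    intro i x hx
    by_cases hi : i ∈ Finset.Icc a b
    · exact Set.mem_biUnion hi hx
    · exfalso
      have hi' : i < a ∨ b < i := by
        rw [Finset.mem_Icc] at hi
        omega
      have hz := hbdd i hi'
      have : Zi i = ∅ := Groth.Agent.Helper1.Dv.support_isZero hz
      rw [this] at hx
      exact hx
  obtain ⟨U, hUc, hZU⟩ := exists_compact_open Z hZc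
  let V : X.Opens := ⟨Zᶜ, hZcl.isOpen_compl⟩
  have hUV : U ⊔ V = ⊤ := by
    rw [eq_top_iff]
    intro x _
    by_cases hx : x ∈ Z
    · exact (le_sup_left : U ≤ U ⊔ V) (hZU hx)
    · exact (le_sup_right : V ≤ U ⊔ V) hx
  haveI : CompactSpace ↥(U : Scheme.{u}) := isCompact_iff_compactSpace.1 hUc
  haveI : IsNoetherian (U : Scheme.{u}) := {}
  haveI : QuasiCompact (U.ι ≫ f) :=
    ⟨fun _ _ _ => TopologicalSpace.NoetherianSpace.isCompact _⟩
  obtain ⟨e⟩ := nonempty_rpush_iso_of_cover f U V hUV (DCoh.toD X F) (fun i x hx => by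
    by_contra hns
    exact hx (hZi i hns))
  let FU := (DCoh.restrictCx U).obj F
  let eU : DCoh.toD (U : Scheme.{u}) FU ≅ (DCoh.restrictD U.ι).obj (DCoh.toD X F) :=
    ((Scheme.Modules.restrictFunctor U.ι).mapDerivedCategoryFactors.app F).symm
  have hHD : ∀ i : ℤ, DCoh.HD (DCoh.toD (U : Scheme.{u}) FU) i ≅
      (DCoh.HD (DCoh.toD X F) i).restrict U.ι := fun i =>
    (DerivedCategory.homologyFunctor _ i).mapIso eU ≪≫ (hdRestrictDIso (DCoh.toD X F) U i).symm
  have h1 := isPerfect_rpush_of_torAmplitude (U.ι ≫ f) FU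
    (fun i => isCoh_of_iso (hHD i).symm
      (Groth.Agent.Helper1.FinPush.isCoh_restrict U.ι _ (hcoh i))) a b
    (fun i hi => IsZero.of_iso
      (Functor.map_isZero (Scheme.Modules.restrictFunctor U.ι) (hbdd i hi)) (hHD i))
    (fun i => by
      rw [Groth.Agent.Lead.TilT.support_eq_of_iso (hHD i),
        Groth.Agent.Lead.TilT.support_restrict]
      exact isProperOver_restrict f U _ ((hZi i).trans hZU) (hsupp i))
    m n (fun x' => Groth.Agent.Lib.Helper5.DerSchTor.hasTorAmplitudeAt_restrict f U x' F m n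
      (htor _))
  exact Groth.Agent.Lib.Helper5.PerfTri.isPerfect_of_iso
    ((DCoh.Rpush (U.ι ≫ f)).mapIso eU ≪≫ e.symm) h1

end Groth.Agent.Lib.Helper5.RpushPerf
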