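import Mathlib
import Groth.Agent.Lib.Helper5.RpushPerf.Excise
import Groth.Agent.Lib.Helper5.Perf.RelPerf
import Groth.Agent.Lib.Helper5.RelPC.FlatTerms
import Groth.Agent.Lib.Helper5.RelPC.FlatSingle

/-!
# Tor amplitude relative to a morphism from local models with terms flat over the base (helper5)
-/
set_option autoImplicit false
set_option linter.unusedSectionVars false
set_option linter.unusedVariables false
set_option linter.style.haveILetI false
universe u
open CategoryTheory CategoryTheory.Limits MonoidalCategory AlgebraicGeometry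
open scoped ZeroObject
attribute [local instance] HasDerivedCategory.standard

namespace Groth.Agent.Lib.Helper5.RpushPerf

open Groth.Agent.Lib.Helper5.StalkTot Groth.Agent.Lib.Helper5.StalkAdj
open Groth.Agent.Helper5.TorAmp Groth.Agent.Lib.Helper5.TensorAmp
open Groth.Agent.Lib.Helper5.KSixFlat Groth.Agent.Lib.Helper5.KFlatPull
open Groth.Agent.Lib.Helper5.DerSchTor Groth.Agent.Lib.Helper5.RpushSupp
open DTen

variable {X Y : Scheme.{u}}

/-- tor amplitude at a point can be checked on an open neighbourhood -/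
theorem hasTorAmplitudeAt_of_restrict (f : X ⟶ Y) (U : X.Opens) (x' : (U : Scheme.{u}))
    (F : CochainComplex X.Modules ℤ) (a b : ℤ)
    (hF : DerSch.HasTorAmplitudeAt (U.ι ≫ f) a b ((DCoh.restrictCx U).obj F) x') :
    DerSch.HasTorAmplitudeAt f a b F (U.ι.base x') := by
  rw [hasTorAmplitudeAt_iff] at hF ⊢
  have hbij : Function.Bijective (U.ι.stalkMap x').hom :=
    (ConcreteCategory.isIso_iff_bijective _).1 inferInstance
  haveI := isIso_unitCx_of_bijective (U.ι.stalkMap x').hom hbij (stalkCx X (U.ι.base x') F)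
  have e1 : (resCx (U.ι.stalkMap x').hom).obj
      (stalkCx (U : Scheme.{u}) x' ((DCoh.restrictCx U).obj F)) ≅ stalkCx X (U.ι.base x') F :=
    (resCx (U.ι.stalkMap x').hom).mapIso (stalkCxRestrictIso U x' F) ≪≫
      (asIso ((unitCx (U.ι.stalkMap x').hom).app (stalkCx X (U.ι.base x') F))).symm
  have e2 := resCompIso U.ι f x' (stalkCx (U : Scheme.{u}) x' ((DCoh.restrictCx U).obj F)) ≪≫
    (resCx (f.stalkMap (U.ι.base x')).hom).mapIso e1
  exact hasTorAmplitudeIn_of_iso (DerivedCategory.Q.mapIso e2) hF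

/-- a local model of `F` near a point: a complex with terms flat over the base, vanishing outside
`[a, b]`, isomorphic to `F` in the derived category of a neighbourhood -/
def LocModel (f : X ⟶ Y) (F : CochainComplex X.Modules ℤ) (V : X.Opens) (a b : ℤ) : Prop :=
  ∃ E : CochainComplex (V : Scheme.{u}).Modules ℤ, DCoh.VanishesOutside E a b ∧
    (∀ i : ℤ, FlatMod.IsFlatOver (V.ι ≫ f) (E.X i)) ∧
    Nonempty (DerivedCategory.Q.obj ((DCoh.restrictCx V).obj F) ≅ DerivedCategory.Q.obj E)

theorem LocModel.mono {f : X ⟶ Y} {F : CochainComplex X.Modules ℤ} {V : X.Opens} {a b a' b' : ℤ}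
    (h : LocModel f F V a b) (ha : a' ≤ a) (hb : b ≤ b') : LocModel f F V a' b' := by
  obtain ⟨E, hv, hfl, he⟩ := h
  exact ⟨E, fun i hi => hv i (by omega), hfl, he⟩

/-- a complex vanishing in the derived category of `V` has local models on `V` with all bounds -/
theorem locModel_of_isZero (f : X ⟶ Y) (F : CochainComplex X.Modules ℤ) (V : X.Opens)
    (h : IsZero (DerivedCategory.Q.obj ((DCoh.restrictCx V).obj F))) (a b : ℤ) :
    LocModel f F V a b := by
  refine ⟨0, fun i _ => ?_, fun i => ?_, ⟨h.iso ?_⟩⟩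
  · exact (HomologicalComplex.eval _ _ i).map_isZero (isZero_zero _)
  · exact Groth.Agent.Lib.Helper5.FlatSingle.isFlatOver_of_isZero _
      ((HomologicalComplex.eval _ _ i).map_isZero (isZero_zero _))
  · exact DerivedCategory.Q.map_isZero (isZero_zero _)

theorem hasTorAmplitudeAt_of_locModel (f : X ⟶ Y) (F : CochainComplex X.Modules ℤ) (V : X.Opens)
    (a b : ℤ) (h : LocModel f F V a b) (x : X) (hx : x ∈ V) :
    DerSch.HasTorAmplitudeAt f a b F x := by
  obtain ⟨E, hv, hfl, ⟨e⟩⟩ := h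
  have h1 : DerSch.HasTorAmplitude (V.ι ≫ f) a b E :=
    Groth.Agent.Lib.Helper5.FlatTerms.hasTorAmplitude_of_flat_terms _ E a b hv hfl
  have h2 := hasTorAmplitudeAt_of_iso (V.ι ≫ f) ⟨x, hx⟩ e.symm a b (h1 ⟨x, hx⟩)
  exact hasTorAmplitudeAt_of_restrict f V ⟨x, hx⟩ F a b h2

theorem isZero_HD_restrict_of_locModel (f : X ⟶ Y) (F : CochainComplex X.Modules ℤ)
    (V : X.Opens) (a b : ℤ) (h : LocModel f F V a b) (i : ℤ) (hi : i < a ∨ b < i) :
    IsZero ((DCoh.HD (DCoh.toD X F) i).restrict V.ι) := by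
  obtain ⟨E, hv, hfl, ⟨e⟩⟩ := h
  have hz : IsZero (DCoh.HD (DerivedCategory.Q.obj E) i) := by
    refine IsZero.of_iso ?_ ((DerivedCategory.homologyFunctorFactors _ i).app E)
    exact Groth.Agent.Lib.Helper5.NearFLF.isZero_homology_of_isZero _ i (hv i hi)
  exact IsZero.of_iso hz (hdRestrictDIso (DCoh.toD X F) V i ≪≫
    (DerivedCategory.homologyFunctor _ i).mapIso
      ((Scheme.Modules.restrictFunctor V.ι).mapDerivedCategoryFactors.app F ≪≫ e))

/-- **finite tor amplitude and boundedness from local models**, with bounds uniform by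
quasi-compactness -/
theorem exists_hasTorAmplitude_of_locModel (f : X ⟶ Y) (F : CochainComplex X.Modules ℤ)
    (Z : Set X) (hZ : IsCompact Z)
    (hin : ∀ x : X, x ∈ Z → ∃ (V : X.Opens) (a b : ℤ), x ∈ V ∧ LocModel f F V a b)
    (hout : ∀ x : X, x ∉ Z → ∃ V : X.Opens, x ∈ V ∧
      IsZero (DerivedCategory.Q.obj ((DCoh.restrictCx V).obj F))) :
    ∃ m n : ℤ, DerSch.HasTorAmplitude f m n F ∧
      ∀ i : ℤ, (i < m ∨ n < i) → IsZero (DCoh.HD (DCoh.toD X F) i) := by
  classical
  have hall : ∀ x : X, ∃ (V : X.Opens) (a b : ℤ), x ∈ V ∧ LocModel f F V a b ∧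
      (x ∉ Z → ∀ a' b' : ℤ, LocModel f F V a' b') := by
    intro x
    by_cases hx : x ∈ Z
    · obtain ⟨V, a, b, hxV, h⟩ := hin x hx
      exact ⟨V, a, b, hxV, h, fun hn => absurd hx hn⟩
    · obtain ⟨V, hxV, h⟩ := hout x hx
      exact ⟨V, 0, 0, hxV, locModel_of_isZero f F V h 0 0,
        fun _ a' b' => locModel_of_isZero f F V h a' b'⟩
  choose V a b hxV hmod hfree using hall
  obtain ⟨t, ht⟩ := hZ.elim_finite_subcover (fun x : X => ((V x : X.Opens) : Set X))
    (fun x => (V x).isOpen) (fun x _ => Set.mem_iUnion.2 ⟨x, hxV x⟩)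
  obtain ⟨n, hn⟩ := (t.image b).exists_le
  obtain ⟨m', hm'⟩ := (t.image (fun x => - a x)).exists_le
  have hm : ∀ y ∈ t, -m' ≤ a y := by
    intro y hy
    have := hm' (- a y) (Finset.mem_image_of_mem (fun x => - a x) hy)
    omega
  have hcov : ∀ x : X, ∃ W : X.Opens, x ∈ W ∧ LocModel f F W (-m') n := by
    intro x
    by_cases hx : x ∈ Z
    · have := ht hx
      simp only [Set.mem_iUnion, exists_prop] at this
      obtain ⟨y, hy, hxy⟩ := this
      exact ⟨V y, hxy, (hmod y).mono (hm y hy)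
        (hn (b y) (Finset.mem_image_of_mem b hy))⟩
    · exact ⟨V x, hxV x, hfree x hx (-m') n⟩
  refine ⟨-m', n, ?_, ?_⟩
  · intro x
    obtain ⟨W, hxW, hW⟩ := hcov x
    exact hasTorAmplitudeAt_of_locModel f F W (-m') n hW x hxW
  · intro i hi
    apply Groth.Agent.Lib.Helper5.PerfAmpl.isZero_of_local
    intro x
    obtain ⟨W, hxW, hW⟩ := hcov x
    exact ⟨W, hxW, isZero_HD_restrict_of_locModel f F W (-m') n hW i hi⟩

end Groth.Agent.Lib.Helper5.RpushPerf
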