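import Mathlib
import Groth.Agent.Lib.Helper5.Perf.StalkFree
import Groth.Agent.Lib.Helper5.StalkTen.StalkTenS
import Groth.Agent.Lib.Helper5.StalkTen.StalkTot

/-!
# Flatness over the base of `M ⊗ G` for `M` finite locally free and `G` flat over the base (helper5)
-/
set_option autoImplicit false
set_option linter.unusedSectionVars false
set_option linter.unusedVariables false
set_option linter.style.haveILetI false
universe u
open CategoryTheory CategoryTheory.Limits MonoidalCategory AlgebraicGeometry
attribute [local instance] HasDerivedCategory.standard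

namespace Groth.Agent.Lib.Helper5.RpushPerf

open Groth.Agent.Lib.Helper5.StalkTot Groth.Agent.Lib.Helper5.StalkAdj
  Groth.Agent.Lib.Helper5.StalkTenS

section Ring

variable {R A : Type u} [CommRing R] [CommRing A]

/-- `M ⊗_A N` is flat over `R` if `M` is free over `A` and `N` is flat over `R` -/
theorem flat_restrictScalars_tensor (φ : R →+* A) (M N : ModuleCat.{u} A)
    (hfree : Module.Free A M)
    (hN : Module.Flat R ((ModuleCat.restrictScalars φ).obj N)) :
    Module.Flat R ((ModuleCat.restrictScalars φ).obj (M ⊗ N)) := by
  classical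
  let ι := Module.Free.ChooseBasisIndex A M
  let b := Module.Free.chooseBasis A M
  let e : TensorProduct A M N ≃ₗ[A] (ι →₀ N) :=
    (TensorProduct.congr b.repr (LinearEquiv.refl A N)).trans
      (TensorProduct.finsuppScalarLeft A N ι)
  let N' := (ModuleCat.restrictScalars φ).obj N
  let e' : ((ModuleCat.restrictScalars φ).obj (M ⊗ N)) ≃ₗ[R] (ι →₀ N') :=
    { toFun := fun x => (e (show TensorProduct A M N from x) : ι →₀ N)
      invFun := fun y => (e.symm (show ι →₀ N from y) : TensorProduct A M N)
      map_add' := fun x y => e.map_add _ _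
      map_smul' := fun r x => by
        have h1 : e (φ r • (show TensorProduct A M N from x)) =
            φ r • e (show TensorProduct A M N from x) := e.map_smul (φ r) _
        apply Finsupp.ext; intro i
        exact DFunLike.congr_fun h1 i
      left_inv := fun x => e.left_inv _
      right_inv := fun y => e.right_inv _ }
  haveI : Module.Flat R N' := hN
  haveI : Module.Flat R (ι →₀ N') :=
    Module.Flat.of_linearEquiv (finsuppLEquivDirectSum R N' ι)
  exact Module.Flat.of_linearEquiv e'

end Ring

variable {X S : Scheme.{u}}

/-- the tensor product of a finite locally free module with a module flat over the base is flat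
over the base -/
theorem isFlatOver_tensor_of_isFinLocFree (g : X ⟶ S) (M G : X.Modules)
    (hM : FlatMod.IsFinLocFree M) (hG : FlatMod.IsFlatOver g G) :
    FlatMod.IsFlatOver g ((DCoh.tensorRightMod G).obj M) := by
  intro x
  have hGx : Module.Flat (S.presheaf.stalk (g.base x)) ((DerSch.stalkOver g x).obj G) := hG x
  obtain ⟨hfree, -⟩ :=
    Groth.Agent.Lib.Helper5.StalkFree.free_finite_stalk_of_isFinLocFree M hM x
  let eG : (DerSch.stalkOver g x).obj G ≅
      (ModuleCat.restrictScalars (g.stalkMap x).hom).obj ((stalkSh X x).obj G) :=
    (ModuleCat.restrictScalars (g.stalkMap x).hom).mapIso ((stalkFunctorIso X x).app G)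
  have hGx' : Module.Flat (S.presheaf.stalk (g.base x))
      ((ModuleCat.restrictScalars (g.stalkMap x).hom).obj ((stalkSh X x).obj G)) :=
    Module.Flat.of_linearEquiv eG.symm.toLinearEquiv
  have h1 : Module.Flat (S.presheaf.stalk (g.base x))
      ((ModuleCat.restrictScalars (g.stalkMap x).hom).obj
        ((stalkSh X x).obj M ⊗ (stalkSh X x).obj G)) :=
    flat_restrictScalars_tensor (g.stalkMap x).hom ((stalkSh X x).obj M)
      ((stalkSh X x).obj G) hfree hGx'
  let e : (DerSch.stalkOver g x).obj ((DCoh.tensorRightMod G).obj M) ≅
      (ModuleCat.restrictScalars (g.stalkMap x).hom).obj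
        ((stalkSh X x).obj M ⊗ (stalkSh X x).obj G) :=
    (ModuleCat.restrictScalars (g.stalkMap x).hom).mapIso
      ((stalkFunctorIso X x).app ((DCoh.tensorRightMod G).obj M) ≪≫ stalkTensorIsoS X x M G)
  have : Module.Flat (S.presheaf.stalk (g.base x))
      ((DerSch.stalkOver g x).obj ((DCoh.tensorRightMod G).obj M)) :=
    Module.Flat.of_linearEquiv e.toLinearEquiv
  exact this

end Groth.Agent.Lib.Helper5.RpushPerf
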