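import Mathlib
import Groth.Agent.Lib.Helper5.RpushPerf.LocData
import Groth.Agent.Lib.Helper5.RpushPerf.TenG1
import Groth.Agent.Lib.Helper5.TorQC.ResTF
import Groth.Agent.Lib.Helper5.LTen.SPTensor

/-!
# Auxiliary lemmas on flatness over the base, proper supports and `P ⊗ G` (helper5)
-/
set_option autoImplicit false
set_option linter.unusedSectionVars false
set_option linter.unusedVariables false
set_option linter.style.haveILetI false
universe u
open CategoryTheory CategoryTheory.Limits MonoidalCategory AlgebraicGeometry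
attribute [local instance] HasDerivedCategory.standard

namespace Groth.Agent.Lib.Helper5.RpushPerf

open Groth.Agent.Lib.Helper5.TorQC
  Groth.Agent.Lib.Helper5.DerSchTor Groth.Agent.Lib.Helper5.RpushSupp
  Groth.Agent.Lib.Helper5.RestrTen

variable {X S : Scheme.{u}}

/-- flatness over the base restricts to opens -/
theorem isFlatOver_restrict (f : X ⟶ S) (U : X.Opens) (G : X.Modules)
    (hG : FlatMod.IsFlatOver f G) :
    FlatMod.IsFlatOver (U.ι ≫ f) ((Scheme.Modules.restrictFunctor U.ι).obj G) := by
  have hfl : ∀ i : ℤ, FlatMod.IsFlatOver f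
      (((HomologicalComplex.single X.Modules (ComplexShape.up ℤ) 0).obj G).X i) := by
    intro i
    by_cases hi : i = 0
    · subst hi
      exact Groth.Agent.Lib.Helper5.FlatSingle.isFlatOver_of_iso f
        (HomologicalComplex.singleObjXSelf (ComplexShape.up ℤ) 0 G).symm hG
    · exact Groth.Agent.Lib.Helper5.FlatSingle.isFlatOver_of_isZero f
        (HomologicalComplex.isZero_single_obj_X (ComplexShape.up ℤ) 0 G i hi)
  have h1 : DerSch.HasTorAmplitude f 0 0
      ((HomologicalComplex.single X.Modules (ComplexShape.up ℤ) 0).obj G) :=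
    Groth.Agent.Lib.Helper5.FlatTerms.hasTorAmplitude_of_flat_terms f _ 0 0
      (fun i hi => HomologicalComplex.isZero_single_obj_X (ComplexShape.up ℤ) 0 G i (by omega)) hfl
  apply Groth.Agent.Lib.Helper5.FlatSingle.isFlatOver_of_hasTorAmplitude_single
  intro x'
  have h2 := hasTorAmplitudeAt_restrict f U x' _ 0 0 (h1 _)
  exact hasTorAmplitudeAt_of_iso (U.ι ≫ f) x'
    (DerivedCategory.Q.mapIso ((HomologicalComplex.singleMapHomologicalComplex
      (Scheme.Modules.restrictFunctor U.ι) (ComplexShape.up ℤ) 0).app G)) 0 0 h2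

/-- a closed subset of a closed subset proper over the base is proper over the base -/
theorem isProperOver_of_subset (f : X ⟶ S) (Z Z' : Set X) (hZ' : IsClosed Z') (hsub : Z' ⊆ Z)
    (h : ClSub.IsProperOver f Z) : ClSub.IsProperOver f Z' := by
  obtain ⟨hc, hp⟩ := h
  haveI hp' : IsProper (Groth.Agent.Helper3.redι Z hc ≫ f) := hp
  rw [Groth.Agent.Helper3.isProperOver_iff f Z' hZ']
  have hle : Z' ⊆ Set.range (Groth.Agent.Helper3.redι Z hc) := by
    rw [Groth.Agent.Helper3.range_redι]
    exact hsub
  rw [← Groth.Agent.Helper3.redLift_fac (Groth.Agent.Helper3.redι Z hc) Z' hZ' hle,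
    Category.assoc]
  infer_instance

/-- `P ⊗ G` vanishes in the derived category of an open on which `G` vanishes -/
theorem isZero_Q_restrict_TF (P : CochainComplex X.Modules ℤ) (G : X.Modules) (V : X.Opens)
    (hV : IsZero ((Scheme.Modules.restrictFunctor V.ι).obj G)) :
    IsZero (DerivedCategory.Q.obj ((DCoh.restrictCx V).obj (TF P G))) := by
  apply isZero_of_forall_isZero_HD
  intro i
  have h1 : IsZero ((TF ((DCoh.restrictCx V).obj P)
      ((Scheme.Modules.restrictFunctor V.ι).obj G)).X i) :=
    Groth.Agent.Lib.Helper5.SPTensor.isZero_tensor_right (((DCoh.restrictCx V).obj P).X i)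
      ((Scheme.Modules.restrictFunctor V.ι).obj G) hV
  have h2 : IsZero (((DCoh.restrictCx V).obj (TF P G)).X i) :=
    IsZero.of_iso h1 ((HomologicalComplex.eval _ _ i).mapIso (resTFIso V.ι P G))
  have h3 : IsZero (((DCoh.restrictCx V).obj (TF P G)).homology i) :=
    Groth.Agent.Lib.Helper5.NearFLF.isZero_homology_of_isZero _ i h2
  exact IsZero.of_iso h3 ((DerivedCategory.homologyFunctorFactors _ i).app _)

end Groth.Agent.Lib.Helper5.RpushPerf
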