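import Mathlib
import Groth.Agent.Lib.Helper5.RpushPerf.TenG2
import Groth.Agent.Lib.Helper5.LTen.PerfTensor
import Groth.Agent.Lib.Helper5.LTen.DerInv
import Groth.Agent.Lib.Helper5.CohTen.Main
import Groth.Agent.Lib.Helper1.FtSupp
import Groth.Agent.Lib.Helper5.ProperPush.CohExt

/-!
# `Rf_*(E ⊗^L G)` is perfect for `E` perfect and `G` coherent, flat over the base, with proper
support (helper5)
-/
set_option autoImplicit false
set_option linter.unusedSectionVars false
set_option linter.unusedVariables false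
set_option linter.style.haveILetI false
universe u
open CategoryTheory CategoryTheory.Limits MonoidalCategory AlgebraicGeometry
attribute [local instance] HasDerivedCategory.standard

namespace Groth.Agent.Lib.Helper5.RpushPerf

open Groth.Agent.Lib.Helper5.TorQC
  Groth.Agent.Lib.Helper5.DerSchTor Groth.Agent.Lib.Helper5.RpushSupp
  Groth.Agent.Lib.Helper5.LocalCoh Groth.Agent.Lib.Helper5.CohTen
  Groth.Agent.Lib.Helper5.RestrTen

variable {X S : Scheme.{u}}

/-- the local models of `P ⊗ G` for `P` K-flat representing a perfect complex and `G` flat over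
the base -/
theorem exists_locModel_TF (f : X ⟶ S) (E : DCoh.D X) (hE : DCoh.IsPerfect E) (G : X.Modules)
    (hG : FlatMod.IsFlatOver f G) (P : CochainComplex X.Modules ℤ) (hP : DCoh.IsKFlat P)
    (eP : DCoh.toD X P ≅ E) (x : X) :
    ∃ (V : X.Opens) (a b : ℤ), x ∈ V ∧ LocModel f (TF P G) V a b := by
  obtain ⟨V, hxV, hV⟩ := hE x
  obtain ⟨E', ⟨⟨a, b, hab⟩, hfl⟩, ⟨e⟩⟩ := hV P ⟨eP⟩
  haveI : DCoh.HasLTensorMod ((Scheme.Modules.restrictFunctor V.ι).obj G) :=
    Groth.Agent.Lib.Helper5.LTM.hasLTensorMod _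
  have hPV : DCoh.IsKFlat ((DCoh.restrictCx V).obj P) :=
    Groth.Agent.Lib.Helper5.PerfTensor.isKFlat_restrict V.ι P hP
  have hE'k : DCoh.IsKFlat E' :=
    Groth.Agent.Lib.Helper5.LTenDer.isKFlat_of_isStrictlyPerfect E' ⟨⟨a, b, hab⟩, hfl⟩
  refine ⟨V, a, b, hxV, TF E' ((Scheme.Modules.restrictFunctor V.ι).obj G), ?_, ?_, ⟨?_⟩⟩
  · intro i hi
    exact (DCoh.tensorRightMod ((Scheme.Modules.restrictFunctor V.ι).obj G)).map_isZero (hab i hi)
  · intro i
    exact isFlatOver_tensor_of_isFinLocFree (V.ι ≫ f) (E'.X i) _ (hfl i)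
      (isFlatOver_restrict f V G hG)
  · exact DerivedCategory.Q.mapIso (resTFIso V.ι P G) ≪≫
      (Groth.Agent.Lib.Helper5.LTM.ltensorModObjIso _ _ hPV).symm ≪≫
      (DCoh.LTensorMod ((Scheme.Modules.restrictFunctor V.ι).obj G)).mapIso e ≪≫
      Groth.Agent.Lib.Helper5.LTM.ltensorModObjIso _ E' hE'k

/-- the cohomology sheaf in degree `0` of a module placed in degree `0` -/
noncomputable def hdSCxIso (G : X.Modules) : DCoh.HD (DCoh.toD X (sCx G)) 0 ≅ G :=
  (DerivedCategory.homologyFunctor X.Modules 0).mapIso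
      (Groth.Agent.Lib.Helper5.FlatTerms.toDSingleIso G) ≪≫
    (DerivedCategory.singleFunctorCompHomologyFunctorIso X.Modules 0).app G

theorem isZero_HD_sCx (G : X.Modules) (j : ℤ) (hj : j ≠ 0) :
    IsZero (DCoh.HD (DCoh.toD X (sCx G)) j) :=
  IsZero.of_iso (Groth.Agent.Lib.Helper5.NearFLF.isZero_homology_of_isZero (sCx G) j
    (isZero_sCx_X G j hj)) (hdQIso (sCx G) j)

theorem isCohD_sCx (G : X.Modules) (hG : Coh.IsCoh G) : DCoh.IsCohD (DCoh.toD X (sCx G)) := by
  intro j
  by_cases hj : j = 0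
  · subst hj
    exact isCoh_of_iso (hdSCxIso G).symm hG
  · exact Groth.Agent.Lib.Helper5.CohExt.isCoh_of_isZero _ (isZero_HD_sCx G j hj)

end Groth.Agent.Lib.Helper5.RpushPerf
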