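import Mathlib
import Groth.Agent.Lib.Helper5.RpushPerf.TenG3

/-!
# `Rf_*(E ⊗^L G)` is perfect for `E` perfect and `G` coherent, flat over the base, with proper
support (helper5)
-/
set_option autoImplicit false
set_option linter.unusedSectionVars false
set_option linter.unusedVariables false
set_option linter.style.haveILetI false
universe u
open CategoryTheory CategoryTheory.Limits MonoidalCategory AlgebraicGeometry
attribute [local instance] HasDerivedCategory.standard

namespace Groth.Agent.Lib.Helper5.RpushPerf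

open Groth.Agent.Lib.Helper5.TorQC
  Groth.Agent.Lib.Helper5.DerSchTor Groth.Agent.Lib.Helper5.RpushSupp
  Groth.Agent.Lib.Helper5.LocalCoh Groth.Agent.Lib.Helper5.CohTen
  Groth.Agent.Lib.Helper5.RestrTen

variable {X S : Scheme.{u}}

/-- the cohomology sheaves of `P ⊗ G` are coherent -/
theorem isCoh_HD_TF [IsLocallyNoetherian X] (E : DCoh.D X) (hE : DCoh.IsPerfect E)
    (G : X.Modules) (hG : Coh.IsCoh G) (P : CochainComplex X.Modules ℤ) (hP : DCoh.IsKFlat P)
    (eP : DCoh.toD X P ≅ E) (i : ℤ) : Coh.IsCoh (DCoh.HD (DCoh.toD X (TF P G)) i) := by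
  apply isCoh_of_locally
  intro x
  obtain ⟨V, hxV, hV⟩ := hE x
  obtain ⟨E', ⟨⟨a, b, hab⟩, hfl⟩, ⟨e⟩⟩ := hV P ⟨eP⟩
  refine ⟨V, hxV, ?_⟩
  haveI : IsLocallyNoetherian (V : Scheme.{u}) := isLocallyNoetherian_of_isOpenImmersion V.ι
  let GV := (Scheme.Modules.restrictFunctor V.ι).obj G
  haveI : DCoh.HasLTensorMod GV := Groth.Agent.Lib.Helper5.LTM.hasLTensorMod _
  have hPV : DCoh.IsKFlat ((DCoh.restrictCx V).obj P) :=
    Groth.Agent.Lib.Helper5.PerfTensor.isKFlat_restrict V.ι P hP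
  have hE'k : DCoh.IsKFlat E' :=
    Groth.Agent.Lib.Helper5.LTenDer.isKFlat_of_isStrictlyPerfect E' ⟨⟨a, b, hab⟩, hfl⟩
  let e1 : DerivedCategory.Q.obj ((DCoh.restrictCx V).obj (TF P G)) ≅
      DerivedCategory.Q.obj ((DCoh.tensorCx.obj E').obj (sCx GV)) :=
    DerivedCategory.Q.mapIso (resTFIso V.ι P G) ≪≫
      (Groth.Agent.Lib.Helper5.LTM.ltensorModObjIso GV _ hPV).symm ≪≫
      (DCoh.LTensorMod GV).mapIso e ≪≫
      Groth.Agent.Lib.Helper5.LTM.ltensorModObjIso GV E' hE'k ≪≫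
      DerivedCategory.Q.mapIso (tfIso E' GV)
  have hGVc : Coh.IsCoh GV := Groth.Agent.Helper1.FinPush.isCoh_restrict V.ι G hG
  have hE'c : DCoh.IsCohD (DerivedCategory.Q.obj E') := fun j =>
    isCoh_of_iso (hdQIso E' j).symm (isCoh_homology_of_finLocFree E' hfl j)
  have hE'b : ∀ j : ℤ, b < j → IsZero (DCoh.HD (DerivedCategory.Q.obj E') j) := fun j hj =>
    IsZero.of_iso (Groth.Agent.Lib.Helper5.NearFLF.isZero_homology_of_isZero _ j
      (hab j (Or.inr hj))) (hdQIso E' j)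
  have hGc : DCoh.IsCohD (DerivedCategory.Q.obj (sCx GV)) := isCohD_sCx GV hGVc
  have hGb : ∀ j : ℤ, 0 < j → IsZero (DCoh.HD (DerivedCategory.Q.obj (sCx GV)) j) := fun j hj =>
    isZero_HD_sCx GV j (by omega)
  have h2 := isCoh_homology_tensor_of_isKFlat E' (sCx GV) hE'k hE'c b hE'b hGc 0 hGb i
  exact isCoh_of_iso ((hdQIso _ i).symm ≪≫ (DerivedCategory.homologyFunctor _ i).mapIso e1.symm ≪≫
    (DerivedCategory.homologyFunctor _ i).mapIso
      ((Scheme.Modules.restrictFunctor V.ι).mapDerivedCategoryFactors.app (TF P G)).symm ≪≫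
    (hdRestrictDIso (DCoh.toD X (TF P G)) V i).symm) h2

/-- **`Rf_*(E ⊗^L G)` is perfect** for `E` perfect and `G` coherent, flat over the Noetherian base
`S`, with support proper over `S` -/
theorem isPerfect_rpush_ltensorMod [IsNoetherian S] (f : X ⟶ S) [LocallyOfFiniteType f]
    (E : DCoh.D X) (hE : DCoh.IsPerfect E) (G : X.Modules) (hG : Coh.IsCoh G)
    (hflat : FlatMod.IsFlatOver f G) (hsupp : ClSub.IsProperOver f (CohB1.support G))
    [DCoh.HasLTensorMod G] [DCoh.HasRpush f] :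
    DCoh.IsPerfect ((DCoh.Rpush f).obj ((DCoh.LTensorMod G).obj E)) := by
  haveI : IsLocallyNoetherian X := LocallyOfFiniteType.isLocallyNoetherian f
  obtain ⟨P, hP, -, ⟨eP⟩⟩ := Groth.Agent.Lib.Helper5.Pure.exists_kflat_repr E
  let eK : (DCoh.LTensorMod G).obj E ≅ DCoh.toD X (TF P G) :=
    (DCoh.LTensorMod G).mapIso eP.symm ≪≫ Groth.Agent.Lib.Helper5.LTM.ltensorModObjIso G P hP
  have hGcl : IsClosed (CohB1.support G) := hsupp.fst
  let V₀ : X.Opens := ⟨(CohB1.support G)ᶜ, hGcl.isOpen_compl⟩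
  have hGV₀ : IsZero ((Scheme.Modules.restrictFunctor V₀.ι).obj G) :=
    isZero_restrict_of_stalks G V₀ (fun x hx => not_not.1 hx)
  have hzero : IsZero (DerivedCategory.Q.obj ((DCoh.restrictCx V₀).obj (TF P G))) :=
    isZero_Q_restrict_TF P G V₀ hGV₀
  obtain ⟨m, n, htor, hbdd⟩ := exists_hasTorAmplitude_of_locModel f (TF P G) (CohB1.support G)
    (isCompact_of_isProperOver f _ hsupp)
    (fun x _ => exists_locModel_TF f E hE G hflat P hP eP x)
    (fun x hx => ⟨V₀, hx, hzero⟩)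
  have hcoh : DCoh.IsCohD (DCoh.toD X (TF P G)) := fun i => isCoh_HD_TF E hE G hG P hP eP i
  have hsub : ∀ i : ℤ, CohB1.support (DCoh.HD (DCoh.toD X (TF P G)) i) ⊆ CohB1.support G := by
    intro i x hx
    by_contra hxG
    apply hx
    have hz : IsZero ((DCoh.HD (DCoh.toD X (TF P G)) i).restrict V₀.ι) :=
      IsZero.of_iso ((DerivedCategory.homologyFunctor _ i).map_isZero hzero)
        (hdRestrictDIso (DCoh.toD X (TF P G)) V₀ i ≪≫
          (DerivedCategory.homologyFunctor _ i).mapIso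
            ((Scheme.Modules.restrictFunctor V₀.ι).mapDerivedCategoryFactors.app (TF P G)))
    exact subsingleton_stalk_of_isZero_restrict _ V₀ hz x hxG
  have h1 := isPerfect_rpush_lft f (TF P G) hcoh m n hbdd
    (fun i => isProperOver_of_subset f _ _
      (Groth.Agent.Helper1.FtGen.isClosed_support _ (hcoh i).2) (hsub i) hsupp) m n htor
  exact Groth.Agent.Lib.Helper5.PerfTri.isPerfect_of_iso ((DCoh.Rpush f).mapIso eK.symm) h1

end Groth.Agent.Lib.Helper5.RpushPerf
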