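import Mathlib
import Groth.Agent.Lib.Helper5.RpushPerf.LocData
import Groth.Agent.Lib.Helper5.DerSchTor.StalkOverB
import Groth.Agent.Lib.Helper5.DerSchTor.Restrict
import Groth.Agent.Lib.Helper5.TensorAmp.TensorAmpG
import Groth.Agent.Lib.Helper5.TorAmp.TorDim
import Groth.Agent.Lib.Helper5.LTen.DerInv
import Groth.Agent.Lib.Helper5.RelPC.CPAt5
import Groth.Agent.Lib.Helper5.KSix.TorComp

/-!
# Tor amplitude of perfect complexes relative to a perfect morphism (helper5)
-/
set_option autoImplicit false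
set_option linter.unusedSectionVars false
set_option linter.unusedVariables false
set_option linter.style.haveILetI false
universe u
open CategoryTheory CategoryTheory.Limits MonoidalCategory AlgebraicGeometry
open scoped ZeroObject
attribute [local instance] HasDerivedCategory.standard

namespace Groth.Agent.Lib.Helper5.PerfMorTor

open Groth.Agent.Lib.Helper5.StalkTot Groth.Agent.Lib.Helper5.StalkAdj
open Groth.Agent.Helper5.TorAmp Groth.Agent.Lib.Helper5.TensorAmp
open Groth.Agent.Lib.Helper5.KSixFlat Groth.Agent.Lib.Helper5.KFlatPull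
open Groth.Agent.Lib.Helper5.DerSchTor Groth.Agent.Lib.Helper5.RpushSupp
open Groth.Agent.Lib.Helper5.RpushPerf
open DTen

section Ring

variable {A B : Type u} [CommRing A] [CommRing B]

/-- the unit complex of `B`, restricted to `A`, is `B` in degree `0` -/
noncomputable def resUnitIso [Algebra A B] :
    DRing.toD ((resCx (algebraMap A B)).obj (𝟙_ (DRing.Cx B))) ≅ Dual.inD A B :=
  DerivedCategory.Q.mapIso ((HomologicalComplex.singleMapHomologicalComplex
      (ModuleCat.restrictScalars.{u} (algebraMap A B)) (ComplexShape.up ℤ) 0).app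
        (𝟙_ (ModuleCat.{u} B))) ≪≫
    ((DerivedCategory.singleFunctorIsoCompQ (ModuleCat.{u} A) 0).app
      ((ModuleCat.restrictScalars.{u} (algebraMap A B)).obj (𝟙_ (ModuleCat.{u} B)))).symm ≪≫
    (DerivedCategory.singleFunctor (ModuleCat.{u} A) 0).mapIso
      (Groth.Agent.Lib.Helper5.KSixTor.restrictSelfIso (A := A) (B := B))

/-- finite tor dimension of `B` over `A`, in terms of the unit complex -/
theorem torVanF_unit_of_hasTorDimLE (φ : A →+* B) (d : ℕ)
    (h : letI := φ.toAlgebra; DRing.HasTorDimLE A d B) :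
    TorVanF (-(d : ℤ)) 0 ((resCx φ).obj (𝟙_ (DRing.Cx B))) := by
  letI := φ.toAlgebra
  have h1 := ((s6946 (R := A) B d).1).1 h
  exact torVanF_of_hasTorAmplitudeIn _ _ _ (hasTorAmplitudeIn_of_iso resUnitIso.symm h1)

/-- extension of scalars of the unit complex -/
noncomputable def extUnitCxIso (lam : A →+* B) :
    (extCx lam).obj (𝟙_ (DRing.Cx A)) ≅ 𝟙_ (DRing.Cx B) :=
  (HomologicalComplex.singleMapHomologicalComplex
      (ModuleCat.extendScalars.{u, u, u} lam) (ComplexShape.up ℤ) 0).app (𝟙_ (ModuleCat.{u} A)) ≪≫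
    (HomologicalComplex.single _ (ComplexShape.up ℤ) 0).mapIso
      (Functor.Monoidal.εIso (ModuleCat.extendScalars.{u, u, u} lam)).symm

end Ring

section Scheme

variable {X Y : Scheme.{u}}

/-- **the tor amplitude of a local ring of `X` over the local ring of `Y`**, from the tor
amplitude of the ring of an affine open over the ring of an affine open of the base -/
theorem torVanF_stalk_unit (f : X ⟶ Y) (U : X.Opens) (V : Y.Opens) (hU : IsAffineOpen U)
    (hV : IsAffineOpen V) (hUV : U ≤ f ⁻¹ᵁ V) (a b : ℤ)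
    (h : TorVanF a b ((resCx (f.appLE V U hUV).hom).obj (𝟙_ (DRing.Cx Γ(X, U)))))
    (x : X) (hx : x ∈ U) :
    TorVanF a b ((resCx (f.stalkMap x).hom).obj (𝟙_ (DRing.Cx (X.presheaf.stalk x)))) := by
  have hfx : f.base x ∈ V := hUV hx
  let ell : Γ(Y, V) →+* Y.presheaf.stalk (f.base x) := (Y.presheaf.germ V (f.base x) hfx).hom
  let lam : Γ(X, U) →+* X.presheaf.stalk x := (X.presheaf.germ U x hx).hom
  have hcomm : lam.comp (f.appLE V U hUV).hom = (f.stalkMap x).hom.comp ell := by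
    have h1 := Scheme.Hom.germ_stalkMap f V x hfx
    have h2 := X.presheaf.germ_res (homOfLE hUV) x hx
    have h3 : f.appLE V U hUV ≫ X.presheaf.germ U x hx =
        Y.presheaf.germ V (f.base x) hfx ≫ f.stalkMap x := by
      rw [h1, Scheme.Hom.appLE, Category.assoc, h2]
    ext r
    exact congrArg (fun t => t.hom r) h3
  have hellL : letI := ell.toAlgebra
      IsLocalization.AtPrime (Y.presheaf.stalk (f.base x))
        (hV.primeIdealOf ⟨f.base x, hfx⟩).asIdeal := hV.isLocalization_stalk ⟨f.base x, hfx⟩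
  have hlamL : letI := lam.toAlgebra
      IsLocalization.AtPrime (X.presheaf.stalk x)
        (hU.primeIdealOf ⟨x, hx⟩).asIdeal := hU.isLocalization_stalk ⟨x, hx⟩
  have hell : letI := ell.toAlgebra; Module.Flat Γ(Y, V) (Y.presheaf.stalk (f.base x)) := by
    letI := ell.toAlgebra
    haveI := hellL
    exact IsLocalization.flat _ (hV.primeIdealOf ⟨f.base x, hfx⟩).asIdeal.primeCompl
  have hlam : letI := lam.toAlgebra; Module.Flat Γ(X, U) (X.presheaf.stalk x) := by
    letI := lam.toAlgebra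
    haveI := hlamL
    exact IsLocalization.flat _ (hU.primeIdealOf ⟨x, hx⟩).asIdeal.primeCompl
  have key := torVanF_local_of_global (f.appLE V U hUV).hom ell lam (f.stalkMap x).hom hcomm
    hell hlam
    (fun N' => isIso_counit_of_isLocalization ell
      (hV.primeIdealOf ⟨f.base x, hfx⟩).asIdeal.primeCompl hellL N')
    (𝟙_ (DRing.Cx Γ(X, U))) a b h
  exact (torVanF_iff_of_iso ((resCx (f.stalkMap x).hom).mapIso (extUnitCxIso lam)) a b).1 key

/-- tor amplitude of the structure sheaf at a point, in terms of the unit complex of the local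
ring -/
theorem hasTorAmplitudeAt_unit_iff (f : X ⟶ Y) (x : X) (a b : ℤ) :
    DerSch.HasTorAmplitudeAt f a b (DerSch.unitCx X) x ↔
      TorVanF a b ((resCx (f.stalkMap x).hom).obj (𝟙_ (DRing.Cx (X.presheaf.stalk x)))) := by
  rw [hasTorAmplitudeAt_iff, hasTorAmplitudeIn_iff_torVanF]
  exact torVanF_iff_of_iso ((resCx (f.stalkMap x).hom).mapIso (stalkCxUnitIso x)) a b

/-- **a bounded complex of flat `O_X`-modules has finite tor amplitude over the base at a point
where the structure sheaf has** -/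
theorem hasTorAmplitudeAt_of_flat_terms (f : X ⟶ Y) (x : X) (E : CochainComplex X.Modules ℤ)
    (a b c d : ℤ) (hv : DCoh.VanishesOutside E a b) (hfl : ∀ i : ℤ, FlatMod.IsFlat (E.X i))
    (hu : DerSch.HasTorAmplitudeAt f c d (DerSch.unitCx X) x) :
    DerSch.HasTorAmplitudeAt f (c + a) (d + b) E x := by
  rw [hasTorAmplitudeAt_unit_iff] at hu
  rw [hasTorAmplitudeAt_iff]
  apply hasTorAmplitudeIn_of_torVanF
  have h1 := torVanF_tensor (f.stalkMap x).hom (stalkCx X x E)
    (𝟙_ (DRing.Cx (X.presheaf.stalk x))) a b c d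
    (fun i hi => (stalkSh X x).map_isZero (hv i hi))
    (fun i => hfl i x) hu
  exact (torVanF_iff_of_iso ((resCx (f.stalkMap x).hom).mapIso (λ_ (stalkCx X x E))) _ _).1 h1

/-- the restriction of the unit complex to an open -/
noncomputable def restrictUnitCxIso (W : X.Opens) :
    (DCoh.restrictCx W).obj (DerSch.unitCx X) ≅ DerSch.unitCx (W : Scheme.{u}) :=
  (HomologicalComplex.singleMapHomologicalComplex
      (Scheme.Modules.restrictFunctor W.ι) (ComplexShape.up ℤ) 0).app (Coh.structureModule X) ≪≫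
    (HomologicalComplex.single _ (ComplexShape.up ℤ) 0).mapIso
      (Groth.Agent.Lib.Helper5.CPAtLib.restrictUnitIso W.ι)

/-- **local finite tor amplitude of a perfect complex relative to a perfect morphism** -/
theorem exists_local_torAmp (f : X ⟶ Y) (hf : MoreMor.IsPerfectMor f) (P : DCoh.D X)
    (hP : DCoh.IsPerfect P) (F : CochainComplex X.Modules ℤ) (e : DCoh.toD X F ≅ P) (x : X) :
    ∃ (W : X.Opens) (a b : ℤ), x ∈ W ∧
      ∀ x' : X, x' ∈ W → DerSch.HasTorAmplitudeAt f a b F x' := by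
  obtain ⟨W₀, hxW₀, hW₀⟩ := hP x
  obtain ⟨E, ⟨⟨a, b, hab⟩, hfl⟩, ⟨he⟩⟩ := hW₀ F ⟨e⟩
  obtain ⟨_, ⟨V, hV, rfl⟩, hfxV, -⟩ := Y.isBasis_affineOpens.exists_subset_of_mem_open
    (Set.mem_univ (f.base x)) isOpen_univ
  obtain ⟨_, ⟨U, hU, rfl⟩, hxU, hUle⟩ := X.isBasis_affineOpens.exists_subset_of_mem_open
    (show x ∈ ((f ⁻¹ᵁ V ⊓ W₀ : X.Opens) : Set X) from ⟨hfxV, hxW₀⟩) (f ⁻¹ᵁ V ⊓ W₀).isOpen
  have hUV : U ≤ f ⁻¹ᵁ V := fun y hy => (hUle hy).1
  obtain ⟨d, hd⟩ := (hf U V hU hV hUV).2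
  refine ⟨U, -(d : ℤ) + a, 0 + b, hxU, fun x' hx' => ?_⟩
  have hx'W : x' ∈ W₀ := (hUle hx').2
  have hu : DerSch.HasTorAmplitudeAt f (-(d : ℤ)) 0 (DerSch.unitCx X) x' :=
    (hasTorAmplitudeAt_unit_iff f x' _ _).2
      (torVanF_stalk_unit f U V hU hV hUV _ _ (torVanF_unit_of_hasTorDimLE _ d hd) x' hx')
  have hu' : DerSch.HasTorAmplitudeAt (W₀.ι ≫ f) (-(d : ℤ)) 0
      (DerSch.unitCx (W₀ : Scheme.{u})) ⟨x', hx'W⟩ :=
    hasTorAmplitudeAt_of_iso (W₀.ι ≫ f) ⟨x', hx'W⟩
      (DerivedCategory.Q.mapIso (restrictUnitCxIso W₀)) _ _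
      (hasTorAmplitudeAt_restrict f W₀ ⟨x', hx'W⟩ (DerSch.unitCx X) _ _ hu)
  have h2 := hasTorAmplitudeAt_of_flat_terms (W₀.ι ≫ f) ⟨x', hx'W⟩ E a b (-(d : ℤ)) 0 hab
    (fun i => Groth.Agent.Lib.Helper5.LTenDer.isFlat_of_isFinLocFree _ (hfl i)) hu'
  have h3 := hasTorAmplitudeAt_of_iso (W₀.ι ≫ f) ⟨x', hx'W⟩ he.symm _ _ h2
  exact hasTorAmplitudeAt_of_restrict f W₀ ⟨x', hx'W⟩ F _ _ h3

theorem hasTorAmplitudeAt_mono (f : X ⟶ Y) (x : X) (F : CochainComplex X.Modules ℤ)
    {a b a' b' : ℤ} (h : DerSch.HasTorAmplitudeAt f a b F x) (ha : a' ≤ a) (hb : b ≤ b') :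
    DerSch.HasTorAmplitudeAt f a' b' F x :=
  hasTorAmplitudeIn_mono h ha hb

/-- **a perfect complex on a quasi-compact scheme has finite tor amplitude relative to a perfect
morphism** -/
theorem exists_hasTorAmplitude_of_isPerfect [CompactSpace X] (f : X ⟶ Y)
    (hf : MoreMor.IsPerfectMor f) (P : DCoh.D X) (hP : DCoh.IsPerfect P)
    (F : CochainComplex X.Modules ℤ) (e : DCoh.toD X F ≅ P) :
    ∃ m n : ℤ, DerSch.HasTorAmplitude f m n F := by
  classical
  choose W a b hxW hW using exists_local_torAmp f hf P hP F e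
  obtain ⟨t, ht⟩ := isCompact_univ.elim_finite_subcover (fun x : X => ((W x : X.Opens) : Set X))
    (fun x => (W x).isOpen) (fun x _ => Set.mem_iUnion.2 ⟨x, hxW x⟩)
  obtain ⟨n, hn⟩ := (t.image b).exists_le
  obtain ⟨m', hm'⟩ := (t.image (fun x => - a x)).exists_le
  refine ⟨-m', n, fun x => ?_⟩
  have hx := ht (Set.mem_univ x)
  simp only [Set.mem_iUnion, exists_prop] at hx
  obtain ⟨y, hy, hxy⟩ := hx
  have h1 := hm' (- a y) (Finset.mem_image_of_mem (fun x => - a x) hy)
  exact hasTorAmplitudeAt_mono f x F (hW y x hxy) (by omega)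
    (hn (b y) (Finset.mem_image_of_mem b hy))

/-- **a perfect complex on a quasi-compact scheme has bounded cohomology** -/
theorem exists_bounded_of_isPerfect [CompactSpace X] (P : DCoh.D X) (hP : DCoh.IsPerfect P)
    (F : CochainComplex X.Modules ℤ) (e : DCoh.toD X F ≅ P) :
    ∃ m n : ℤ, ∀ i : ℤ, (i < m ∨ n < i) → IsZero (DCoh.HD (DCoh.toD X F) i) := by
  classical
  have hloc : ∀ x : X, ∃ (W : X.Opens) (a b : ℤ), x ∈ W ∧
      ∀ i : ℤ, (i < a ∨ b < i) → IsZero ((DCoh.HD (DCoh.toD X F) i).restrict W.ι) := by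
    intro x
    obtain ⟨W₀, hxW₀, hW₀⟩ := hP x
    obtain ⟨E, ⟨⟨a, b, hab⟩, hfl⟩, ⟨he⟩⟩ := hW₀ F ⟨e⟩
    refine ⟨W₀, a, b, hxW₀, fun i hi => ?_⟩
    have hz : IsZero (DCoh.HD (DerivedCategory.Q.obj E) i) := by
      refine IsZero.of_iso ?_ ((DerivedCategory.homologyFunctorFactors _ i).app E)
      exact Groth.Agent.Lib.Helper5.NearFLF.isZero_homology_of_isZero _ i (hab i hi)
    exact IsZero.of_iso hz (hdRestrictDIso (DCoh.toD X F) W₀ i ≪≫
      (DerivedCategory.homologyFunctor _ i).mapIso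
        ((Scheme.Modules.restrictFunctor W₀.ι).mapDerivedCategoryFactors.app F ≪≫ he))
  choose W a b hxW hW using hloc
  obtain ⟨t, ht⟩ := isCompact_univ.elim_finite_subcover (fun x : X => ((W x : X.Opens) : Set X))
    (fun x => (W x).isOpen) (fun x _ => Set.mem_iUnion.2 ⟨x, hxW x⟩)
  obtain ⟨n, hn⟩ := (t.image b).exists_le
  obtain ⟨m', hm'⟩ := (t.image (fun x => - a x)).exists_le
  refine ⟨-m', n, fun i hi => ?_⟩
  apply Groth.Agent.Lib.Helper5.PerfAmpl.isZero_of_local
  intro x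
  have hx := ht (Set.mem_univ x)
  simp only [Set.mem_iUnion, exists_prop] at hx
  obtain ⟨y, hy, hxy⟩ := hx
  have h1 := hm' (- a y) (Finset.mem_image_of_mem (fun x => - a x) hy)
  have h2 := hn (b y) (Finset.mem_image_of_mem b hy)
  exact ⟨W y, hxy, hW y i (by omega)⟩

end Scheme

end Groth.Agent.Lib.Helper5.PerfMorTor
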