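import Mathlib
import Groth.Agent.Lib.Helper5.RpushPerf.LocData
import Groth.Agent.Lib.Helper1.FtSupp

/-!
# `Rf_*` of a perfect complex is perfect for `f` flat and proper over a Noetherian base (helper5)
-/
set_option autoImplicit false
set_option linter.unusedSectionVars false
set_option linter.unusedVariables false
set_option linter.style.haveILetI false
universe u
open CategoryTheory CategoryTheory.Limits AlgebraicGeometry
attribute [local instance] HasDerivedCategory.standard

namespace Groth.Agent.Lib.Helper5.RpushPerf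

variable {X Y : Scheme.{u}}

/-- the local models of a perfect complex, relative to a flat morphism -/
theorem exists_locModel_of_isPerfect (f : X ⟶ Y) [Flat f] (P : DCoh.D X) (hP : DCoh.IsPerfect P)
    (F : CochainComplex X.Modules ℤ) (e : DCoh.toD X F ≅ P) (x : X) :
    ∃ (V : X.Opens) (a b : ℤ), x ∈ V ∧ LocModel f F V a b := by
  obtain ⟨V, hxV, hV⟩ := hP x
  obtain ⟨E, ⟨⟨a, b, hab⟩, hfl⟩, he⟩ := hV F ⟨e⟩
  exact ⟨V, a, b, hxV, E, hab,
    fun i => Groth.Agent.Lib.Helper5.LpullLib.isFlatOver_of_isFinLocFree (V.ι ≫ f) _ (hfl i), he⟩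

/-- **a perfect complex on a quasi-compact scheme has finite tor amplitude relative to a flat
morphism, and is bounded** -/
theorem exists_hasTorAmplitude_of_isPerfect [CompactSpace X] (f : X ⟶ Y) [Flat f] (P : DCoh.D X)
    (hP : DCoh.IsPerfect P) (F : CochainComplex X.Modules ℤ) (e : DCoh.toD X F ≅ P) :
    ∃ m n : ℤ, DerSch.HasTorAmplitude f m n F ∧
      ∀ i : ℤ, (i < m ∨ n < i) → IsZero (DCoh.HD (DCoh.toD X F) i) :=
  exists_hasTorAmplitude_of_locModel f F Set.univ isCompact_univ
    (fun x _ => exists_locModel_of_isPerfect f P hP F e x)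
    (fun x hx => absurd (Set.mem_univ x) hx)

/-- **`Rf_*` preserves perfect complexes** for `f` flat and proper, `Y` Noetherian -/
theorem isPerfect_rpush_of_isPerfect [IsNoetherian Y] (f : X ⟶ Y) [IsProper f] [Flat f]
    [DCoh.HasRpush f] (P : DCoh.D X) (hP : DCoh.IsPerfect P) :
    DCoh.IsPerfect ((DCoh.Rpush f).obj P) := by
  haveI : IsLocallyNoetherian X := LocallyOfFiniteType.isLocallyNoetherian f
  haveI : CompactSpace X := QuasiCompact.compactSpace_of_compactSpace f
  haveI : IsNoetherian X := {}
  let F : CochainComplex X.Modules ℤ := DerivedCategory.Q.objPreimage P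
  let e : DCoh.toD X F ≅ P := DerivedCategory.Q.objObjPreimageIso P
  obtain ⟨m, n, htor, hbdd⟩ := exists_hasTorAmplitude_of_isPerfect f P hP F e
  have hPq : DCoh.IsQCohD P :=
    Groth.Agent.Lib.Helper5.CountHom.isQCohD_of_isPerfect P hP
  have hcoh : DCoh.IsCohD (DCoh.toD X F) := by
    intro i
    have hpc := Groth.Agent.Lib.Helper5.LpullLib.isPseudoCoherentD_of_isPerfect P hP i
    exact Groth.Agent.Lib.Helper5.LocalCoh.isCoh_of_iso
      ((DerivedCategory.homologyFunctor _ i).mapIso e.symm)
      (((Groth.Agent.Lib.Helper5.PCCoh.isPC_iff_noetherian P hPq i).1 hpc).1 i le_rfl)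
  have h1 := isPerfect_rpush_of_torAmplitude f F hcoh m n hbdd
    (fun i => by
      have hc : IsClosed (CohB1.support (DCoh.HD (DCoh.toD X F) i)) :=
        Groth.Agent.Helper1.FtGen.isClosed_support _ (hcoh i).2
      exact Groth.Agent.Helper3.isProperOver_of_isClosedImmersion f
        (Groth.Agent.Helper3.redι _ hc) _ (Groth.Agent.Helper3.range_redι _ hc) inferInstance)
    m n htor
  exact Groth.Agent.Lib.Helper5.PerfTri.isPerfect_of_iso ((DCoh.Rpush f).mapIso e) h1

end Groth.Agent.Lib.Helper5.RpushPerf
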