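import Mathlib
import Groth.Agent.Lib.Helper5.RpushPerf.PerfMorTor
import Groth.Agent.Lib.Helper5.RpushPerf.PerfTor
import Groth.Agent.Lib.Helper5.Perf.PerfIff
import Groth.Agent.Lib.Helper5.Perf.HomVanishMV
import Groth.Agent.Lib.Helper5.Stalk.RpushRes
import Groth.Agent.Lib.Helper3.PerfLoc3

/-!
# `Rf_*` of a perfect complex is perfect for `f` proper and perfect over a locally Noetherian base
(helper5)
-/
set_option autoImplicit false
set_option linter.unusedSectionVars false
set_option linter.unusedVariables false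
set_option linter.style.haveILetI false
universe u
open CategoryTheory CategoryTheory.Limits AlgebraicGeometry
attribute [local instance] HasDerivedCategory.standard

namespace Groth.Agent.Lib.Helper5.PerfMorTor

open Groth.Agent.Lib.Helper5.RpushPerf

variable {X Y : Scheme.{u}}

/-- **`Rf_*` preserves perfect complexes** for `f` proper and perfect, `Y` Noetherian -/
theorem isPerfect_rpush_of_isPerfect [IsNoetherian Y] (f : X ⟶ Y) [IsProper f]
    (hf : MoreMor.IsPerfectMor f) [DCoh.HasRpush f] (P : DCoh.D X) (hP : DCoh.IsPerfect P) :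
    DCoh.IsPerfect ((DCoh.Rpush f).obj P) := by
  haveI : IsLocallyNoetherian X := LocallyOfFiniteType.isLocallyNoetherian f
  haveI : CompactSpace X := QuasiCompact.compactSpace_of_compactSpace f
  haveI : IsNoetherian X := {}
  let F : CochainComplex X.Modules ℤ := DerivedCategory.Q.objPreimage P
  let e : DCoh.toD X F ≅ P := DerivedCategory.Q.objObjPreimageIso P
  obtain ⟨m, n, htor⟩ := exists_hasTorAmplitude_of_isPerfect f hf P hP F e
  obtain ⟨a, b, hbdd⟩ := exists_bounded_of_isPerfect P hP F e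
  have hPq : DCoh.IsQCohD P :=
    Groth.Agent.Lib.Helper5.CountHom.isQCohD_of_isPerfect P hP
  have hcoh : DCoh.IsCohD (DCoh.toD X F) := by
    intro i
    have hpc := Groth.Agent.Lib.Helper5.LpullLib.isPseudoCoherentD_of_isPerfect P hP i
    exact Groth.Agent.Lib.Helper5.LocalCoh.isCoh_of_iso
      ((DerivedCategory.homologyFunctor _ i).mapIso e.symm)
      (((Groth.Agent.Lib.Helper5.PCCoh.isPC_iff_noetherian P hPq i).1 hpc).1 i le_rfl)
  have h1 := isPerfect_rpush_lft f F hcoh a b hbdd
    (fun i => by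
      have hc : IsClosed (CohB1.support (DCoh.HD (DCoh.toD X F) i)) :=
        Groth.Agent.Helper1.FtGen.isClosed_support _ (hcoh i).2
      exact Groth.Agent.Helper3.isProperOver_of_isClosedImmersion f
        (Groth.Agent.Helper3.redι _ hc) _ (Groth.Agent.Helper3.range_redι _ hc) inferInstance)
    m n htor
  exact Groth.Agent.Lib.Helper5.PerfTri.isPerfect_of_iso ((DCoh.Rpush f).mapIso e) h1

/-- **`Rf_*` preserves perfect complexes** for `f` proper and perfect, `Y` locally Noetherian -/
theorem isPerfect_rpush_of_isPerfect_locNoeth [IsLocallyNoetherian Y] (f : X ⟶ Y) [IsProper f]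
    (hf : MoreMor.IsPerfectMor f) [DCoh.HasRpush f] (P : DCoh.D X) (hP : DCoh.IsPerfect P) :
    DCoh.IsPerfect ((DCoh.Rpush f).obj P) := by
  apply Groth.Agent.Lib.Helper5.PerfIff.isPerfect_local
  intro y
  obtain ⟨_, ⟨V, hV, rfl⟩, hyV, -⟩ := Y.isBasis_affineOpens.exists_subset_of_mem_open
    (Set.mem_univ y) isOpen_univ
  refine ⟨V, hyV, ?_⟩
  haveI : IsAffine (V : Scheme.{u}) := hV
  haveI : IsNoetherian (V : Scheme.{u}) := {}
  haveI : DCoh.HasRpush (f ∣_ V) := Groth.Agent.Lib.Helper5.HomVanish.hasRpush' _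
  have hf' : MoreMor.IsPerfectMor (f ∣_ V) :=
    (Groth.Agent.Helper3.PCLoc.perfMor_iff _).2
      (IsZariskiLocalAtTarget.restrict ((Groth.Agent.Helper3.PCLoc.perfMor_iff f).1 hf) V)
  have h1 := isPerfect_rpush_of_isPerfect (f ∣_ V) hf' _
    (Groth.Agent.Lib.Helper5.CountHom.isPerfect_restrictJ (f ⁻¹ᵁ V).ι P hP)
  exact Groth.Agent.Lib.Helper5.PerfTri.isPerfect_of_iso
    ((Groth.Agent.Lib.Helper5.RpushRes.rpushRestrictIso f V).app P).symm h1

end Groth.Agent.Lib.Helper5.PerfMorTor
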