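import Mathlib
import Groth.Agent.Lib.Helper5.RpushPerf.TenG4
import Groth.Agent.Lib.Helper5.RpushPerf.WTShift
import Groth.Agent.Lib.Helper5.ProperPush.BddInd
import Groth.Agent.Lib.Helper5.Perf.LpullPC

/-!
# Fourier–Mukai transforms with a coherent kernel flat over the source and of proper support
preserve `D^b_Coh` (helper5)
-/
set_option autoImplicit false
set_option linter.unusedSectionVars false
set_option linter.unusedVariables false
set_option linter.style.haveILetI false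
universe u
open CategoryTheory CategoryTheory.Limits Pretriangulated AlgebraicGeometry
attribute [local instance] HasDerivedCategory.standard

namespace Groth.Agent.Lib.Helper5.RpushPerf

open Groth.Agent.Lib.Helper5.ProjF3 Groth.Agent.Lib.Helper5.LpullLib
  Groth.Agent.Lib.Helper5.LTenAll Groth.Agent.Lib.Helper5.QC Groth.Agent.Lib.Helper5.TorQC
  Groth.Agent.Lib.Helper5.RpushSupp Groth.Agent.Lib.Helper5.LocalCoh
  Groth.Agent.Lib.Helper5.CohTen Groth.Agent.Lib.Helper5.PSupp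
  DerivedCategory.HomologySequence

variable {X Z : Scheme.{u}}

/-- `K ↦ Lp^* K ⊗^L I` -/
noncomputable abbrev pullTen (p : Z ⟶ X) [DCoh.HasLpull p] (I : CochainComplex Z.Modules ℤ)
    [DCoh.HasLTensorCx I] : DCoh.D X ⥤ DCoh.D Z :=
  DCoh.Lpull p ⋙ DCoh.LTensorCx I

theorem weakTri_pullTen (p : Z ⟶ X) [DCoh.HasLpull p] (I : CochainComplex Z.Modules ℤ)
    [DCoh.HasLTensorCx I] : WeakTri (pullTen p I) :=
  (weakTri_lpull p).comp (weakTri_LTensorCx I)

/-- **left t-exactness of `Lp^*(-) ⊗^L K` for `K` flat over the base**: bounded objects go to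
bounded below objects -/
theorem exists_bound_below_pullTen (p : Z ⟶ X) [DCoh.HasLpull p] (K : Z.Modules)
    (hflat : FlatMod.IsFlatOver p K) [DCoh.HasLTensorCx (sCx K)] (M : DCoh.D X) (m n : ℤ)
    [M.IsGE m] [M.IsLE n] :
    ∃ m' : ℤ, ∀ i : ℤ, i < m' → IsZero (DCoh.HD ((pullTen p (sCx K)).obj M) i) := by
  have hfl : ∀ i : ℤ, FlatMod.IsFlatOver p ((sCx K).X i) := by
    intro i
    by_cases hi : i = 0
    · subst hi
      exact Groth.Agent.Lib.Helper5.FlatSingle.isFlatOver_of_iso p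
        (HomologicalComplex.singleObjXSelf (ComplexShape.up ℤ) 0 K).symm hflat
    · exact Groth.Agent.Lib.Helper5.FlatSingle.isFlatOver_of_isZero p (isZero_sCx_X K i hi)
  have htor : DerSch.HasTorAmplitude p 0 0 (sCx K) :=
    Groth.Agent.Lib.Helper5.FlatTerms.hasTorAmplitude_of_flat_terms p _ 0 0
      (fun i hi => isZero_sCx_X K i (by omega)) hfl
  have hW := weakTri_pullTen p (sCx K)
  refine Groth.Agent.Lib.Helper5.BddInd.bounded_induction' (C := X.Modules)
    (fun M => ∃ m' : ℤ, ∀ i : ℤ, i < m' → IsZero (DCoh.HD ((pullTen p (sCx K)).obj M) i))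
    (fun _ => True) (fun _ _ _ _ => trivial) (fun _ _ => trivial) ?_ ?_ ?_ ?_ M m n
    (fun _ => trivial)
  · intro M hM
    exact ⟨0, fun i _ => (DerivedCategory.homologyFunctor _ i).map_isZero (weakTri_isZero_obj hW M hM)⟩
  · rintro M M' e ⟨m', hm'⟩
    exact ⟨m', fun i hi => IsZero.of_iso (hm' i hi)
      ((DerivedCategory.homologyFunctor _ i).mapIso ((pullTen p (sCx K)).mapIso e.symm))⟩
  · intro k N _
    obtain ⟨e⟩ := weakTri_nonempty_shift_iso hW (-k) (DCoh.inD X N)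
    refine ⟨k, fun i hi => ?_⟩
    have h0 : IsZero (DCoh.HD ((pullTen p (sCx K)).obj (DCoh.inD X N)) (-k + i)) :=
      Groth.Agent.Lib.Helper5.DerSchTor.isZero_HD_ltensor_lpull_inD p (sCx K) 0 0 htor N
        (-k + i) (Or.inl (by omega))
    exact IsZero.of_iso h0 ((DerivedCategory.homologyFunctor _ i).mapIso
      ((pullTen p (sCx K)).mapIso
        (((DerivedCategory.singleFunctors X.Modules).shiftIso (-k) k 0 (by omega)).app N).symm ≪≫
        e) ≪≫ hdShiftIso _ (-k) i (-k + i) rfl)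
  · rintro T hT ⟨m₁, h₁⟩ ⟨m₃, h₃⟩
    obtain ⟨c, hc⟩ := hW T hT
    refine ⟨min m₁ m₃, fun i hi => ?_⟩
    have hex := exact₂ _ hc i
    exact hex.isZero_of_both_zeros
      ((h₁ i (lt_of_lt_of_le hi (min_le_left _ _))).eq_of_src _ _)
      ((h₃ i (lt_of_lt_of_le hi (min_le_right _ _))).eq_of_tgt _ _)

/-- `B ⊗^L G = 0` for `G = 0` -/
theorem isZero_ltensorMod_of_isZero (G : Z.Modules) (hG : IsZero G) [DCoh.HasLTensorMod G]
    (B : DCoh.D Z) : IsZero ((DCoh.LTensorMod G).obj B) := by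
  obtain ⟨P, hP, -, ⟨eP⟩⟩ := Groth.Agent.Lib.Helper5.Pure.exists_kflat_repr B
  refine IsZero.of_iso ?_ ((DCoh.LTensorMod G).mapIso eP.symm ≪≫
    Groth.Agent.Lib.Helper5.LTM.ltensorModObjIso G P hP)
  apply isZero_of_forall_isZero_HD
  intro i
  refine IsZero.of_iso ?_ ((DerivedCategory.homologyFunctorFactors _ i).app _)
  apply Groth.Agent.Lib.Helper5.NearFLF.isZero_homology_of_isZero
  exact Groth.Agent.Lib.Helper5.SPTensor.isZero_tensor_right _ _ hG

/-- the cohomology sheaves of `B ⊗^L G` are supported on the support of `G` -/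
theorem support_HD_ltensorMod_subset (G : Z.Modules) (hGcl : IsClosed (CohB1.support G))
    [DCoh.HasLTensorMod G] (B : DCoh.D Z) (i : ℤ) :
    CohB1.support (DCoh.HD ((DCoh.LTensorMod G).obj B) i) ⊆ CohB1.support G := by
  intro x hx
  by_contra hxG
  apply hx
  let V₀ : Z.Opens := ⟨(CohB1.support G)ᶜ, hGcl.isOpen_compl⟩
  have hGV₀ : IsZero ((Scheme.Modules.restrictFunctor V₀.ι).obj G) :=
    isZero_restrict_of_stalks G V₀ (fun x hx => not_not.1 hx)
  haveI : DCoh.HasLTensorMod ((Scheme.Modules.restrictFunctor V₀.ι).obj G) :=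
    Groth.Agent.Lib.Helper5.LTM.hasLTensorMod _
  obtain ⟨e⟩ := Groth.Agent.Lib.Helper5.PerfAmpl.nonempty_restrictLTensorModIso V₀ G B
  have hz : IsZero ((DCoh.HD ((DCoh.LTensorMod G).obj B) i).restrict V₀.ι) :=
    IsZero.of_iso ((DerivedCategory.homologyFunctor _ i).map_isZero
        (isZero_ltensorMod_of_isZero _ hGV₀ _))
      (hdRestrictDIso _ V₀ i ≪≫ (DerivedCategory.homologyFunctor _ i).mapIso e)
  exact subsingleton_stalk_of_isZero_restrict _ V₀ hz x hxG

/-- **the Fourier–Mukai transform with a coherent kernel, flat over the source and with support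
proper over the target, preserves `D^b_Coh`** -/
theorem isCohD_fm {Y : Scheme.{u}} [IsNoetherian X] [IsNoetherian Y] (p : Z ⟶ X) (q : Z ⟶ Y)
    [LocallyOfFiniteType q] [QuasiCompact q] (K : Z.Modules) (hK : Coh.IsCoh K)
    (hflat : FlatMod.IsFlatOver p K) (hsupp : ClSub.IsProperOver q (CohB1.support K))
    [DCoh.HasLpull p] [DCoh.HasLTensorMod K] [DCoh.HasRpush q]
    (M : DCoh.D X) (hM : DCoh.IsCohD M) (m n : ℤ) [M.IsGE m] [M.IsLE n] :
    DCoh.IsCohD ((DCoh.Rpush q).obj ((DCoh.LTensorMod K).obj ((DCoh.Lpull p).obj M))) ∧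
      ∃ m' n' : ℤ,
        ((DCoh.Rpush q).obj ((DCoh.LTensorMod K).obj ((DCoh.Lpull p).obj M))).IsGE m' ∧
        ((DCoh.Rpush q).obj ((DCoh.LTensorMod K).obj ((DCoh.Lpull p).obj M))).IsLE n' := by
  haveI : IsLocallyNoetherian Z := LocallyOfFiniteType.isLocallyNoetherian q
  haveI : CompactSpace Z := QuasiCompact.compactSpace_of_compactSpace q
  haveI : IsNoetherian Z := {}
  haveI : DCoh.HasLTensorCx (sCx K) := hasLTensorCx _
  obtain ⟨e⟩ := nonempty_ltensorMod_iso K ((DCoh.Lpull p).obj M)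
  -- `Lp^* M ∈ D^-_Coh`
  have hMq : DCoh.IsQCohD M := fun i => (hM i).1
  have hpc : ∀ k : ℤ, DCoh.IsPseudoCoherentD k M := fun k =>
    (Groth.Agent.Lib.Helper5.PCCoh.isPC_iff_noetherian M hMq k).2 ⟨fun i _ => hM i, n, inferInstance⟩
  have hLq : DCoh.IsQCohD ((DCoh.Lpull p).obj M) := isQCohD_Lpull p M hMq
  have hLpc := fun k : ℤ => isPseudoCoherentD_Lpull p k M (hpc k)
  have hLcoh : DCoh.IsCohD ((DCoh.Lpull p).obj M) := fun i =>
    ((Groth.Agent.Lib.Helper5.PCCoh.isPC_iff_noetherian _ hLq i).1 (hLpc i)).1 i le_rfl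
  obtain ⟨a, ha⟩ := ((Groth.Agent.Lib.Helper5.PCCoh.isPC_iff_noetherian _ hLq 0).1 (hLpc 0)).2
  -- the kernel in degree `0`
  have hKc : DCoh.IsCohD (DCoh.toD Z (sCx K)) := isCohD_sCx K hK
  have hKb : ∀ j : ℤ, 0 < j → IsZero (DCoh.HD (DCoh.toD Z (sCx K)) j) := fun j hj =>
    isZero_HD_sCx K j (by omega)
  obtain ⟨hAcoh, hAle⟩ := isCohD_LTensorCx (sCx K) ((DCoh.Lpull p).obj M) hLcoh a
    (fun i hi => DerivedCategory.isZero_of_isLE _ a i hi) hKc 0 hKb
  obtain ⟨m', hm'⟩ := exists_bound_below_pullTen p K hflat M m n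
  -- transfer to `A = Lp^* M ⊗^L K`
  have hcoh : ∀ i : ℤ, Coh.IsCoh (DCoh.HD ((DCoh.LTensorMod K).obj ((DCoh.Lpull p).obj M)) i) :=
    fun i => isCoh_of_iso ((DerivedCategory.homologyFunctor _ i).mapIso e.symm) (hAcoh i)
  haveI : ((DCoh.LTensorMod K).obj ((DCoh.Lpull p).obj M)).IsGE m' := by
    rw [DerivedCategory.isGE_iff]
    intro i hi
    exact IsZero.of_iso (hm' i hi) ((DerivedCategory.homologyFunctor _ i).mapIso e)
  haveI : ((DCoh.LTensorMod K).obj ((DCoh.Lpull p).obj M)).IsLE (a + 0) := by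
    rw [DerivedCategory.isLE_iff]
    intro i hi
    exact IsZero.of_iso (hAle i hi) ((DerivedCategory.homologyFunctor _ i).mapIso e)
  have hPM : ∀ i : ℤ, PM q (DCoh.HD ((DCoh.LTensorMod K).obj ((DCoh.Lpull p).obj M)) i) :=
    fun i => ⟨hcoh i, isProperOver_of_subset q _ _
      (Groth.Agent.Helper1.FtGen.isClosed_support _ (hcoh i).2)
      (support_HD_ltensorMod_subset K hsupp.fst _ i) hsupp⟩
  obtain ⟨h1, n', hn'⟩ := pPush_bounded q _ m' (a + 0) hPM
  haveI := Groth.Agent.Lib.Helper5.RpushGE.rpush_isGE q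
    ((DCoh.LTensorMod K).obj ((DCoh.Lpull p).obj M)) m'
  exact ⟨h1, m', n', inferInstance, hn'⟩

end Groth.Agent.Lib.Helper5.RpushPerf
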