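import Mathlib
import Groth.Agent.Lib.Helper5.RpushPerf.FMCoh
import Groth.Agent.Lib.Helper5.RHomQC.TenBound
import Groth.Agent.Lib.Helper5.DRing.RegTorDim
import Groth.Agent.Lib.Helper5.KSix.PerfStalk
import Groth.Agent.Lib.Helper5.Perf.LpullPerf
import Groth.Agent.Lib.Helper5.Perf.PerfAmp
import Groth.Agent.Lib.Helper5.KFlatSite2.TorAmpD
import Groth.Prelude.Def_Models

/-!
# Fourier–Mukai transforms from a regular scheme, with kernel in `D^b_Coh` of proper support,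
preserve `D^b_Coh` (helper5)
-/
set_option autoImplicit false
set_option linter.unusedSectionVars false
set_option linter.unusedVariables false
set_option linter.style.haveILetI false
universe u
open CategoryTheory CategoryTheory.Limits Pretriangulated AlgebraicGeometry
attribute [local instance] HasDerivedCategory.standard

namespace Groth.Agent.Lib.Helper5.FMReg

open Groth.Agent.Lib.Helper5.ProjF3 Groth.Agent.Lib.Helper5.LpullLib
  Groth.Agent.Lib.Helper5.LTenAll Groth.Agent.Lib.Helper5.QC Groth.Agent.Lib.Helper5.TorQC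
  Groth.Agent.Lib.Helper5.RpushSupp Groth.Agent.Lib.Helper5.LocalCoh
  Groth.Agent.Lib.Helper5.CohTen Groth.Agent.Lib.Helper5.PSupp
  Groth.Agent.Lib.Helper5.RpushPerf
  DerivedCategory.HomologySequence

variable {X Z : Scheme.{u}}

/-- **on a regular Noetherian scheme, bounded complexes with coherent cohomology are perfect** -/
theorem isPerfect_of_isCohD_of_regular [IsNoetherian X] (hreg : Models.IsRegularScheme X)
    (M : DCoh.D X) (hM : DCoh.IsCohD M) (m n : ℤ) [M.IsGE m] [M.IsLE n] : DCoh.IsPerfect M := by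
  let F : CochainComplex X.Modules ℤ := DerivedCategory.Q.objPreimage M
  let e : DCoh.toD X F ≅ M := DerivedCategory.Q.objObjPreimageIso M
  haveI : (DCoh.toD X F).IsGE m := DerivedCategory.TStructure.t.isGE_of_iso e.symm m
  haveI : (DCoh.toD X F).IsLE n := DerivedCategory.TStructure.t.isLE_of_iso e.symm n
  have hFc : DCoh.IsCohD (DCoh.toD X F) := fun i =>
    isCoh_of_iso ((DerivedCategory.homologyFunctor _ i).mapIso e.symm) (hM i)
  have hFq : DCoh.IsQCohD (DCoh.toD X F) := fun i => (hFc i).1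
  have hPC : ∀ k : ℤ, DCoh.IsPseudoCoherentD k (DCoh.toD X F) := fun k =>
    (Groth.Agent.Lib.Helper5.PCCoh.isPC_iff_noetherian _ hFq k).2
      ⟨fun i _ => hFc i, n, inferInstance⟩
  have h := Groth.Agent.Lib.Helper5.KSixPerf.isPerfect_of_pseudoCoherent_of_finiteTorDim
    (fun x M' _ _ => by
      haveI := hreg x
      exact Groth.Agent.Lib.Helper5.RegTorDim.hasFiniteTorDim _ M') F m n hPC
  exact Groth.Agent.Lib.Helper5.PerfTri.isPerfect_of_iso e h

theorem hasTorAmplitudeIn_mono {K : DCoh.D Z} {a b a' b' : ℤ} (h : DCoh.HasTorAmplitudeIn a b K)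
    (ha : a' ≤ a) (hb : b ≤ b') : DCoh.HasTorAmplitudeIn a' b' K := by
  intro F _ i hi
  exact h F i (by omega)

/-- **a perfect complex on a quasi-compact scheme has finite tor amplitude** -/
theorem exists_hasTorAmplitudeIn_of_isPerfect [CompactSpace Z] (P : DCoh.D Z)
    (hP : DCoh.IsPerfect P) : ∃ a b : ℤ, DCoh.HasTorAmplitudeIn a b P := by
  classical
  let F : CochainComplex Z.Modules ℤ := DerivedCategory.Q.objPreimage P
  let e : DCoh.toD Z F ≅ P := DerivedCategory.Q.objObjPreimageIso P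
  have hloc : ∀ x : Z, ∃ (W : Z.Opens) (a b : ℤ), x ∈ W ∧
      DCoh.HasTorAmplitudeIn a b ((DCoh.restrictD W.ι).obj P) := by
    intro x
    obtain ⟨W, hxW, hW⟩ := hP x
    obtain ⟨E, ⟨⟨a, b, hab⟩, hfl⟩, ⟨he⟩⟩ := hW F ⟨e⟩
    refine ⟨W, a, b, hxW, ?_⟩
    apply Groth.Agent.Lib.Helper5.LTM.hasTorAmplitudeIn_of_hasFlatAmplitudeIn
    exact ⟨E, hab, fun i => Groth.Agent.Lib.Helper5.LTenDer.isFlat_of_isFinLocFree _ (hfl i),
      ⟨he.symm ≪≫ ((Scheme.Modules.restrictFunctor W.ι).mapDerivedCategoryFactors.app F).symm ≪≫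
        (DCoh.restrictD W.ι).mapIso e⟩⟩
  choose W a b hxW hW using hloc
  obtain ⟨t, ht⟩ := isCompact_univ.elim_finite_subcover (fun x : Z => ((W x : Z.Opens) : Set Z))
    (fun x => (W x).isOpen) (fun x _ => Set.mem_iUnion.2 ⟨x, hxW x⟩)
  obtain ⟨n, hn⟩ := (t.image b).exists_le
  obtain ⟨m', hm'⟩ := (t.image (fun x => - a x)).exists_le
  refine ⟨-m', n, ?_⟩
  apply Groth.Agent.Lib.Helper5.PerfAmpl.hasTorAmplitudeIn_of_local
  intro x
  have hx := ht (Set.mem_univ x)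
  simp only [Set.mem_iUnion, exists_prop] at hx
  obtain ⟨y, hy, hxy⟩ := hx
  have h1 := hm' (- a y) (Finset.mem_image_of_mem (fun x => - a x) hy)
  exact ⟨W y, hxy, hasTorAmplitudeIn_mono (hW y) (by omega)
    (hn (b y) (Finset.mem_image_of_mem b hy))⟩

/-- **dévissage on the kernel**: for `P₀` K-flat and perfect, `Rq_*(P₀ ⊗^L E)` has coherent
cohomology and is bounded above, and `P₀ ⊗^L E` is bounded below, for `E` bounded with coherent
cohomology of proper support -/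
theorem pPush_ltensor {Y : Scheme.{u}} [IsNoetherian Y] (q : Z ⟶ Y) [LocallyOfFiniteType q]
    [QuasiCompact q] [DCoh.HasRpush q] (P₀ : CochainComplex Z.Modules ℤ) (hP₀ : DCoh.IsKFlat P₀)
    (hPp : DCoh.IsPerfect (DerivedCategory.Q.obj P₀)) [DCoh.HasLTensorCx P₀]
    (E : DCoh.D Z) (kₗ kᵤ : ℤ) [E.IsGE kₗ] [E.IsLE kᵤ] (hE : ∀ i : ℤ, PM q (DCoh.HD E i)) :
    PPush q ((DCoh.LTensorCx P₀).obj E) ∧
      ∃ m' : ℤ, ∀ i : ℤ, i < m' → IsZero (DCoh.HD ((DCoh.LTensorCx P₀).obj E) i) := by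
  haveI : IsLocallyNoetherian Z := LocallyOfFiniteType.isLocallyNoetherian q
  haveI : CompactSpace Z := QuasiCompact.compactSpace_of_compactSpace q
  haveI : IsNoetherian Z := {}
  let B₀ : DCoh.D Z := DerivedCategory.Q.obj P₀
  -- `P₀ ∈ D^-_Coh`
  have hPq : DCoh.IsQCohD B₀ := Groth.Agent.Lib.Helper5.CountHom.isQCohD_of_isPerfect B₀ hPp
  have hPpc := fun k : ℤ => Groth.Agent.Lib.Helper5.LpullLib.isPseudoCoherentD_of_isPerfect B₀ hPp k
  have hPcoh : DCoh.IsCohD B₀ := fun i =>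
    ((Groth.Agent.Lib.Helper5.PCCoh.isPC_iff_noetherian _ hPq i).1 (hPpc i)).1 i le_rfl
  obtain ⟨a, ha⟩ := ((Groth.Agent.Lib.Helper5.PCCoh.isPC_iff_noetherian _ hPq 0).1 (hPpc 0)).2
  obtain ⟨ta, tb, hTor⟩ := exists_hasTorAmplitudeIn_of_isPerfect B₀ hPp
  have hW := weakTri_LTensorCx P₀
  -- the case of a single module in degree `0`
  have h0 : ∀ G : Z.Modules, PM q G →
      PPush q ((DCoh.LTensorCx P₀).obj (DCoh.inD Z G)) ∧
        ∀ i : ℤ, i < ta → IsZero (DCoh.HD ((DCoh.LTensorCx P₀).obj (DCoh.inD Z G)) i) := by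
    intro G hG
    haveI : DCoh.HasLTensorMod G := Groth.Agent.Lib.Helper5.LTM.hasLTensorMod G
    haveI : DCoh.HasLTensorCx (sCx G) := hasLTensorCx _
    let B : DCoh.D Z := (DCoh.LTensorMod G).obj B₀
    obtain ⟨i2⟩ := nonempty_ltensorMod_iso G B₀
    let i1 : (DCoh.LTensorCx (sCx G)).obj B₀ ≅ (DCoh.LTensorCx P₀).obj (DCoh.toD Z (sCx G)) :=
      Groth.Agent.Lib.Helper5.RHomQC.ltensorSymmIso (sCx G) P₀ hP₀
    let i3 : (DCoh.LTensorCx P₀).obj (DCoh.toD Z (sCx G)) ≅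
        (DCoh.LTensorCx P₀).obj (DCoh.inD Z G) :=
      (DCoh.LTensorCx P₀).mapIso ((DerivedCategory.singleFunctorIsoCompQ Z.Modules 0).app G).symm
    let eB : B ≅ (DCoh.LTensorCx P₀).obj (DCoh.inD Z G) := i2 ≪≫ i1 ≪≫ i3
    obtain ⟨hAcoh, hAle⟩ := isCohD_LTensorCx (sCx G) B₀ hPcoh a
      (fun i hi => DerivedCategory.isZero_of_isLE _ a i hi) (isCohD_sCx G hG.1) 0
      (fun j hj => isZero_HD_sCx G j (by omega))
    have hBcoh : ∀ i : ℤ, Coh.IsCoh (DCoh.HD B i) := fun i =>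
      isCoh_of_iso ((DerivedCategory.homologyFunctor _ i).mapIso i2.symm) (hAcoh i)
    haveI : B.IsGE ta := by
      rw [DerivedCategory.isGE_iff]
      intro i hi
      exact hTor G i (Or.inl hi)
    haveI : B.IsLE (a + 0) := by
      rw [DerivedCategory.isLE_iff]
      intro i hi
      exact IsZero.of_iso (hAle i hi) ((DerivedCategory.homologyFunctor _ i).mapIso i2)
    have hPM : ∀ i : ℤ, PM q (DCoh.HD B i) := fun i =>
      ⟨hBcoh i, isProperOver_of_subset q _ _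
        (Groth.Agent.Helper1.FtGen.isClosed_support _ (hBcoh i).2)
        (support_HD_ltensorMod_subset G hG.2.fst B₀ i) hG.2⟩
    refine ⟨pPush_of_iso q eB (pPush_bounded q B ta (a + 0) hPM), fun i hi => ?_⟩
    exact IsZero.of_iso (DerivedCategory.isZero_of_isGE B ta i hi)
      ((DerivedCategory.homologyFunctor _ i).mapIso eB.symm)
  refine Groth.Agent.Lib.Helper5.BddInd.bounded_induction' (C := Z.Modules)
    (fun E => PPush q ((DCoh.LTensorCx P₀).obj E) ∧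
      ∃ m' : ℤ, ∀ i : ℤ, i < m' → IsZero (DCoh.HD ((DCoh.LTensorCx P₀).obj E) i))
    (PM q) (fun _ _ e h => pm_of_iso q e h) (fun M hM => pm_of_isZero q M hM) ?_ ?_ ?_ ?_
    E kₗ kᵤ hE
  · intro M hM
    have hz := weakTri_isZero_obj hW M hM
    exact ⟨pPush_of_isZero q _ hz,
      0, fun i _ => (DerivedCategory.homologyFunctor _ i).map_isZero hz⟩
  · rintro M M' e ⟨h1, m', hm'⟩
    exact ⟨pPush_of_iso q ((DCoh.LTensorCx P₀).mapIso e) h1,
      m', fun i hi => IsZero.of_iso (hm' i hi)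
        ((DerivedCategory.homologyFunctor _ i).mapIso ((DCoh.LTensorCx P₀).mapIso e.symm))⟩
  · intro k G hG
    obtain ⟨h1, h2⟩ := h0 G hG
    obtain ⟨e⟩ := weakTri_nonempty_shift_iso hW (-k) (DCoh.inD Z G)
    let e' : (DCoh.LTensorCx P₀).obj ((DerivedCategory.singleFunctor Z.Modules k).obj G) ≅
        ((DCoh.LTensorCx P₀).obj (DCoh.inD Z G))⟦(-k : ℤ)⟧ :=
      (DCoh.LTensorCx P₀).mapIso
        (((DerivedCategory.singleFunctors Z.Modules).shiftIso (-k) k 0 (by omega)).app G).symm ≪≫ e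
    refine ⟨pPush_of_iso q e'.symm (pPush_shift q _ h1 (-k)), ta + k, fun i hi => ?_⟩
    exact IsZero.of_iso (h2 (-k + i) (by omega))
      ((DerivedCategory.homologyFunctor _ i).mapIso e' ≪≫ hdShiftIso _ (-k) i (-k + i) rfl)
  · rintro T hT ⟨p₁, m₁, h₁⟩ ⟨p₃, m₃, h₃⟩
    obtain ⟨c, hc⟩ := hW T hT
    refine ⟨pPush_tri q _ hc p₁ p₃, min m₁ m₃, fun i hi => ?_⟩
    have hex := exact₂ _ hc i
    exact hex.isZero_of_both_zeros
      ((h₁ i (lt_of_lt_of_le hi (min_le_left _ _))).eq_of_src _ _)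
      ((h₃ i (lt_of_lt_of_le hi (min_le_right _ _))).eq_of_tgt _ _)

/-- **Fourier–Mukai transforms from a regular scheme, with kernel in `D^b_Coh` of proper
support, preserve `D^b_Coh`** -/
theorem isCohD_fm_regular {Y : Scheme.{u}} [IsNoetherian X] [IsNoetherian Y] (p : Z ⟶ X)
    (q : Z ⟶ Y) [LocallyOfFiniteType q] [QuasiCompact q] (hreg : Models.IsRegularScheme X)
    (K : CochainComplex Z.Modules ℤ) (hKcoh : DCoh.IsCohD (DCoh.toD Z K)) (kₗ kᵤ : ℤ)
    [(DCoh.toD Z K).IsGE kₗ] [(DCoh.toD Z K).IsLE kᵤ]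
    (hsupp : ∀ i : ℤ, ClSub.IsProperOver q (CohB1.support (DCoh.HD (DCoh.toD Z K) i)))
    [DCoh.HasLpull p] [DCoh.HasLTensorCx K] [DCoh.HasRpush q]
    (M : DCoh.D X) (hM : DCoh.IsCohD M) (m n : ℤ) [M.IsGE m] [M.IsLE n] :
    DCoh.IsCohD ((DCoh.Rpush q).obj ((DCoh.LTensorCx K).obj ((DCoh.Lpull p).obj M))) ∧
      ∃ m' n' : ℤ,
        ((DCoh.Rpush q).obj ((DCoh.LTensorCx K).obj ((DCoh.Lpull p).obj M))).IsGE m' ∧
        ((DCoh.Rpush q).obj ((DCoh.LTensorCx K).obj ((DCoh.Lpull p).obj M))).IsLE n' := by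
  have hMp := isPerfect_of_isCohD_of_regular hreg M hM m n
  have hLp := Groth.Agent.Lib.Helper5.LpullLib.isPerfect_Lpull p M hMp
  obtain ⟨P₀, hP₀, -, ⟨eP⟩⟩ := Groth.Agent.Lib.Helper5.Pure.exists_kflat_repr ((DCoh.Lpull p).obj M)
  haveI : DCoh.HasLTensorCx P₀ := hasLTensorCx _
  have hPp : DCoh.IsPerfect (DerivedCategory.Q.obj P₀) :=
    Groth.Agent.Lib.Helper5.PerfTri.isPerfect_of_iso eP.symm hLp
  obtain ⟨hpp, m', hm'⟩ := pPush_ltensor q P₀ hP₀ hPp (DCoh.toD Z K) kₗ kᵤ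
    (fun i => ⟨hKcoh i, hsupp i⟩)
  let iso : (DCoh.LTensorCx K).obj ((DCoh.Lpull p).obj M) ≅
      (DCoh.LTensorCx P₀).obj (DCoh.toD Z K) :=
    (DCoh.LTensorCx K).mapIso eP.symm ≪≫
      Groth.Agent.Lib.Helper5.RHomQC.ltensorSymmIso K P₀ hP₀
  obtain ⟨h1, n', hn'⟩ := pPush_of_iso q iso.symm hpp
  haveI : ((DCoh.LTensorCx K).obj ((DCoh.Lpull p).obj M)).IsGE m' := by
    rw [DerivedCategory.isGE_iff]
    intro i hi
    exact IsZero.of_iso (hm' i hi) ((DerivedCategory.homologyFunctor _ i).mapIso iso)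
  haveI := Groth.Agent.Lib.Helper5.RpushGE.rpush_isGE q
    ((DCoh.LTensorCx K).obj ((DCoh.Lpull p).obj M)) m'
  exact ⟨h1, m', n', inferInstance, hn'⟩

end Groth.Agent.Lib.Helper5.FMReg
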