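import Mathlib
import Groth.Agent.Lib.Helper5.RpushPerf.PerfTor
import Groth.Agent.Lib.Helper5.BrownU.RpushAdj
import Groth.Agent.Lib.Helper5.BvdB.RAdjCoprod
import Groth.Agent.Lib.Helper5.BvdB.ShriekCpt
import Groth.Agent.Lib.Helper5.BvdB.GenMV

/-!
# The right adjoint of `Rf_*` on `D_QCoh` commutes with direct sums for `f` flat and proper
(helper5)
-/
set_option autoImplicit false
set_option linter.unusedSectionVars false
set_option linter.unusedVariables false
set_option linter.style.haveILetI false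
universe u
open CategoryTheory CategoryTheory.Limits AlgebraicGeometry Pretriangulated
attribute [local instance] HasDerivedCategory.standard

namespace Groth.Agent.Lib.Helper5.RpushPerf

open Groth.Agent.Lib.Helper5.BvdB Groth.Agent.Lib.Helper5.BrownU
  Groth.Agent.Lib.Helper5.PerfTri Groth.Agent.Lib.Helper5.CountHom

section DQ

variable (X : Scheme.{u})

/-- perfect objects are weakly compact in `D_QCoh` -/
theorem weakCptRel_DQ [CompactSpace X] [QuasiSeparatedSpace X] (g : DQ X)
    (hg : DCoh.IsPerfect g.obj) : WeakCptRel.{u} (fun _ : DQ X => True) g := by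
  intro κ E W ι hc _ φ
  let I := (DCoh.IsQCohD (X := X)).ι
  have hc' : IsColimit (Cofan.mk (I.obj W) (fun k => I.map (ι k))) :=
    isColimitCofanMkObjOfIsColimit I E ι hc
  obtain ⟨S, x, hx⟩ := weakCptRel_of_isPerfect g.obj hg κ (fun k => I.obj (E k)) _ _ hc'
    (fun k => (E k).property) (I.map φ)
  refine ⟨S, fun k => I.preimage (x k), ?_⟩
  apply I.map_injective
  rw [hx, Functor.map_sum]
  apply Finset.sum_congr rfl
  intro k _
  rw [Functor.map_comp, I.map_preimage]

/-- perfect objects detect the zero objects of `D_QCoh` -/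
theorem isZero_of_hom_perfect_DQ [CompactSpace X] [QuasiSeparatedSpace X] (Z : DQ X)
    (h : ∀ g : DQ X, DCoh.IsPerfect g.obj → ∀ φ : g ⟶ Z, φ = 0) : IsZero Z := by
  obtain ⟨P, hP, hgen⟩ := exists_perfGen X
  let I := (DCoh.IsQCohD (X := X)).ι
  have hz : IsZero Z.obj := by
    apply hgen Z.obj Z.property
    intro n φ
    let g : DQ X := ⟨P⟦n⟧, isQCohD_of_isPerfect _ (isPerfect_shift hP n)⟩
    have h1 := h g (isPerfect_shift hP n) (I.preimage (X := g) (Y := Z) φ)
    have h2 : I.map (I.preimage (X := g) (Y := Z) φ) = 0 := by rw [h1, Functor.map_zero]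
    rwa [I.map_preimage] at h2
  rw [IsZero.iff_id_eq_zero]
  apply I.map_injective
  rw [Functor.map_zero, CategoryTheory.Functor.map_id]
  exact (IsZero.iff_id_eq_zero _).1 hz

end DQ

variable {X Y : Scheme.{u}}

/-- **the right adjoint of `Rf_* : D_QCoh(X) ⥤ D_QCoh(Y)` preserves coproducts**, relative
form -/
theorem presCoprodRel_rightAdjoint_rpush [IsNoetherian X] [IsNoetherian Y] (f : X ⟶ Y)
    [IsProper f] [Flat f] [DCoh.HasRpush f]
    (h : ∀ K : DCoh.D X, DCoh.IsQCohD K → DCoh.IsQCohD ((DCoh.Rpush f).obj K))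
    (a : DCoh.DQCoh Y ⥤ DCoh.DQCoh X)
    (adj : (ObjectProperty.lift DCoh.IsQCohD (ObjectProperty.ι DCoh.IsQCohD ⋙ DCoh.Rpush f)
      (fun K => h K.obj K.property)) ⊣ a) :
    PresCoprodRel.{u} (fun _ : DCoh.DQCoh Y => True) a := by
  haveI := Groth.Agent.Lib.Helper5.MV.additive_rpush f
  haveI : (ObjectProperty.lift DCoh.IsQCohD (ObjectProperty.ι DCoh.IsQCohD ⋙ DCoh.Rpush f)
      (fun K => h K.obj K.property)).Additive := inferInstance
  refine presCoprodRel_rightAdjoint adj (fun _ => True) (fun _ => True)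
    (fun g : DQ X => DCoh.IsPerfect g.obj) ?_ ?_ ?_ ?_ ?_ ?_ ?_ ?_
  · intro g n hg
    exact isPerfect_of_iso (((DCoh.IsQCohD (X := X)).ι.commShiftIso n).app g).symm
      (isPerfect_shift hg n)
  · intro Z _ hZ
    exact isZero_of_hom_perfect_DQ X Z hZ
  · intro g hg
    exact weakCptRel_DQ X g hg
  · intro g hg
    exact weakCptRel_DQ Y _ (isPerfect_rpush_of_isPerfect f g.obj hg)
  · intro _ _
    trivial
  · intro _ _ _ _ _ _
    trivial
  · intro _ _ _ _ _ _
    trivial
  · intro _ _ _ _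
    trivial

/-- **the right adjoint of `Rf_* : D_QCoh(X) ⥤ D_QCoh(Y)` preserves coproducts** for `f` flat
and proper between Noetherian schemes -/
theorem preservesCoproducts_rightAdjoint_rpush [IsNoetherian X] [IsNoetherian Y] (f : X ⟶ Y)
    [IsProper f] [Flat f] [DCoh.HasRpush f]
    (h : ∀ K : DCoh.D X, DCoh.IsQCohD K → DCoh.IsQCohD ((DCoh.Rpush f).obj K))
    (a : DCoh.DQCoh Y ⥤ DCoh.DQCoh X)
    (adj : (ObjectProperty.lift DCoh.IsQCohD (ObjectProperty.ι DCoh.IsQCohD ⋙ DCoh.Rpush f)
      (fun K => h K.obj K.property)) ⊣ a) (J : Type u) :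
    PreservesColimitsOfShape (Discrete J) a := by
  have hrel := presCoprodRel_rightAdjoint_rpush f h a adj
  haveI : ∀ K : J → DCoh.DQCoh Y, PreservesColimit (Discrete.functor K) a := fun K => by
    obtain ⟨hc'⟩ := hrel J K _ (Sigma.ι K) (coproductIsCoproduct K) (fun _ => trivial)
    apply preservesColimit_of_preserves_colimit_cocone (coproductIsCoproduct K)
    exact (isColimitMapCoconeCofanMkEquiv a K (Sigma.ι K)).symm hc'
  exact preservesColimitsOfShape_of_discrete a

end Groth.Agent.Lib.Helper5.RpushPerf
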